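import Cfsg.Agent.H46.PushUp.FF
import Cfsg.Agent.PGroups.Basic
import Cfsg.Agent.S3007

/-!
# Minimal centrally large subgroups in a pushing-up situation
-/

set_option autoImplicit false
open scoped Pointwise commutatorElement

namespace Cfsg.Agent.H46.PushUp

open Cfsg.Agent H62

section Iso

variable {P : Type*} [Group P] {p : ℕ}

/-- The subgroup generated by the commutators and the `p`-th powers of elements of `X`. -/
def phi (p : ℕ) (X : Subgroup P) : Subgroup P :=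
  Subgroup.closure ({y | ∃ a ∈ X, ∃ b ∈ X, ⁅a, b⁆ = y} ∪ {y | ∃ a ∈ X, a ^ p = y})

theorem phi_mono {X Y : Subgroup P} (h : X ≤ Y) : phi p X ≤ phi p Y := by
  refine Subgroup.closure_mono (Set.union_subset_union ?_ ?_)
  · rintro _ ⟨a, ha, b, hb, rfl⟩; exact ⟨a, h ha, b, h hb, rfl⟩
  · rintro _ ⟨a, ha, rfl⟩; exact ⟨a, h ha, rfl⟩

theorem phi_le (X : Subgroup P) : phi p X ≤ X := by
  refine (Subgroup.closure_le _).mpr ?_
  rintro _ (⟨a, ha, b, hb, rfl⟩ | ⟨a, ha, rfl⟩)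
  · exact X.mul_mem (X.mul_mem (X.mul_mem ha hb) (X.inv_mem ha)) (X.inv_mem hb)
  · exact X.pow_mem ha p

theorem phi_map {P' : Type*} [Group P'] (f : P →* P') (X : Subgroup P) :
    (phi p X).map f = phi p (X.map f) := by
  rw [phi, MonoidHom.map_closure]
  refine congrArg Subgroup.closure (Set.ext fun y => ?_)
  constructor
  · rintro ⟨_, (⟨a, ha, b, hb, rfl⟩ | ⟨a, ha, rfl⟩), rfl⟩
    · exact Or.inl ⟨f a, ⟨a, ha, rfl⟩, f b, ⟨b, hb, rfl⟩, by simp [commutatorElement_def]⟩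
    · exact Or.inr ⟨f a, ⟨a, ha, rfl⟩, by simp⟩
  · rintro (⟨_, ⟨a, ha, rfl⟩, _, ⟨b, hb, rfl⟩, rfl⟩ | ⟨_, ⟨a, ha, rfl⟩, rfl⟩)
    · exact ⟨_, Or.inl ⟨a, ha, b, hb, rfl⟩, by simp [commutatorElement_def]⟩
    · exact ⟨_, Or.inr ⟨a, ha, rfl⟩, by simp⟩

theorem frattini_map [Finite P] [Fact p.Prime] (hP : IsPGroup p P) (X : Subgroup P) :
    (frattini ↥X).map X.subtype = phi p X := by
  have hX : IsPGroup p X := hP.to_subgroup X
  refine le_antisymm ?_ ?_
  · have hn : ((phi p X).subgroupOf X).Normal := ⟨fun y hy x => by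
      show (x : P) * y * (x : P)⁻¹ ∈ phi p X
      have hc : ⁅(x : P), (y : P)⁆ ∈ phi p X :=
        Subgroup.subset_closure (Or.inl ⟨x, x.2, y, y.2, rfl⟩)
      have := mul_mem hc (show (y : P) ∈ phi p X from hy)
      rwa [commutatorElement_def, inv_mul_cancel_right] at this⟩
    have h : frattini ↥X ≤ (phi p X).subgroupOf X := by
      refine PGroups.frattini_le_of_commutator_le (p := p) _ ?_ fun x =>
        Subgroup.subset_closure (Or.inr ⟨x, x.2, rfl⟩)
      rw [commutator_def, Subgroup.commutator_le]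
      exact fun a _ b _ => Subgroup.subset_closure (Or.inl ⟨a, a.2, b, b.2, rfl⟩)
    rintro _ ⟨y, hy, rfl⟩
    exact h hy
  · refine (Subgroup.closure_le _).mpr ?_
    rintro _ (⟨a, ha, b, hb, rfl⟩ | ⟨a, ha, rfl⟩)
    · exact ⟨⁅(⟨a, ha⟩ : X), ⟨b, hb⟩⁆, PGroups.commutator_le_frattini hX
        (Subgroup.commutator_mem_commutator (Subgroup.mem_top _) (Subgroup.mem_top _)), rfl⟩
    · exact ⟨(⟨a, ha⟩ : X) ^ p, PGroups.pow_mem_frattini hX _, rfl⟩

theorem phi_sup_central {X R₀ : Subgroup P} (hc : R₀ ≤ cc X) (hX : X ≤ cc X)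
    (hp : ∀ x ∈ X, x ^ p = 1) : phi p (X ⊔ R₀) = phi p R₀ := by
  refine le_antisymm ((Subgroup.closure_le _).mpr ?_) (phi_mono le_sup_right)
  have hcX : ∀ y ∈ X ⊔ R₀, y ∈ cc X := fun y hy => sup_le hX hc hy
  let T : Subgroup P :=
    { carrier := {y | ∃ x ∈ X, ∃ r ∈ R₀, y = x * r}
      one_mem' := ⟨1, one_mem _, 1, one_mem _, by simp⟩
      mul_mem' := by
        rintro _ _ ⟨x, hx, r, hr, rfl⟩ ⟨x', hx', r', hr', rfl⟩
        exact ⟨x * x', mul_mem hx hx', r * r', mul_mem hr hr', by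
          rw [mul_assoc, ← mul_assoc r, ← (hc hr) x' hx']; group⟩
      inv_mem' := by
        rintro _ ⟨x, hx, r, hr, rfl⟩
        exact ⟨x⁻¹, inv_mem hx, r⁻¹, inv_mem hr, by
          rw [_root_.mul_inv_rev, ← (hc (inv_mem hr)) x⁻¹ (inv_mem hx)]⟩ }
  have hT : X ⊔ R₀ ≤ T := sup_le (fun x hx => ⟨x, hx, 1, one_mem _, (mul_one x).symm⟩)
    (fun r hr => ⟨1, one_mem _, r, hr, (one_mul r).symm⟩)
  rintro _ (⟨a, ha, b, hb, rfl⟩ | ⟨a, ha, rfl⟩)
  · obtain ⟨x, hx, r, hr, rfl⟩ := hT ha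
    obtain ⟨x', hx', r', hr', rfl⟩ := hT hb
    refine Subgroup.subset_closure (Or.inl ⟨r, hr, r', hr', ?_⟩)
    have c1 : Commute x r := (hc hr) x hx
    have c2 : Commute x x' := (hX hx') x hx
    have c3 : Commute x r' := (hc hr') x hx
    have c4 : Commute x' r := (hc hr) x' hx'
    have c5 : Commute x' r' := (hc hr') x' hx'
    simp only [commutatorElement_def]
    symm
    calc x * r * (x' * r') * (x * r)⁻¹ * (x' * r')⁻¹
        = x * (r * x') * (r' * r⁻¹) * x⁻¹ * r'⁻¹ * x'⁻¹ := by group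
      _ = x * (x' * r) * (r' * r⁻¹) * x⁻¹ * r'⁻¹ * x'⁻¹ := by rw [c4.eq]
      _ = x * x' * (r * (r' * r⁻¹) * x⁻¹) * r'⁻¹ * x'⁻¹ := by group
      _ = x * x' * (x⁻¹ * (r * (r' * r⁻¹))) * r'⁻¹ * x'⁻¹ := by
        rw [((c1.mul_right (c3.mul_right c1.inv_right)).inv_left).eq]
      _ = (x * x' * x⁻¹) * (r * r' * r⁻¹ * r'⁻¹) * x'⁻¹ := by group
      _ = x' * ((r * r' * r⁻¹ * r'⁻¹) * x'⁻¹) := by
        rw [c2.eq, mul_inv_cancel_right, mul_assoc]
      _ = x' * (x'⁻¹ * (r * r' * r⁻¹ * r'⁻¹)) := by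
        rw [((((c4.mul_right c5).mul_right c4.inv_right).mul_right c5.inv_right).inv_left).eq]
      _ = _ := mul_inv_cancel_left _ _
  · obtain ⟨x, hx, r, hr, rfl⟩ := hT ha
    refine Subgroup.subset_closure (Or.inr ⟨r, hr, ?_⟩)
    rw [(show Commute x r from (hc hr) x hx).mul_pow, hp x hx, one_mul]

theorem center_card_map {P' : Type*} [Group P'] (f : P →* P') (hf : Function.Injective f)
    (X : Subgroup P) : Nat.card (Subgroup.center ↥(X.map f)) = Nat.card (Subgroup.center ↥X) :=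
  Nat.card_congr (Subgroup.centerCongr (X.equivMapOfInjective f hf).symm).toEquiv

theorem mem_omega {X : Subgroup P} {x : P} :
    x ∈ Cfsg.omegaOneCenter p X ↔ (x ∈ X ∧ x ∈ cc X) ∧ x ^ p = 1 := by
  refine ⟨fun h => ?_, fun h => Subgroup.subset_closure h⟩
  induction h using Subgroup.closure_induction with
  | mem y hy => exact hy
  | one => exact ⟨⟨one_mem _, one_mem _⟩, one_pow _⟩
  | mul a b _ _ ha hb =>
    exact ⟨⟨mul_mem ha.1.1 hb.1.1, mul_mem ha.1.2 hb.1.2⟩, by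
      rw [(show Commute a b from hb.1.2 a ha.1.1).mul_pow, ha.2, hb.2, mul_one]⟩
  | inv a _ ha => exact ⟨⟨inv_mem ha.1.1, inv_mem ha.1.2⟩, by rw [inv_pow, ha.2, inv_one]⟩

theorem omega_map {P' : Type*} [Group P'] (f : P →* P') (hf : Function.Injective f) (X : Subgroup P) :
    Cfsg.omegaOneCenter p (X.map f) = (Cfsg.omegaOneCenter p X).map f := by
  ext y
  rw [mem_omega]
  constructor
  · rintro ⟨⟨⟨x, hx, rfl⟩, hc⟩, hp⟩
    refine ⟨x, mem_omega.mpr ⟨⟨hx, fun r hr => hf ?_⟩, hf (by rw [map_pow, hp, map_one])⟩, rfl⟩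
    rw [map_mul, map_mul]
    exact hc _ ⟨r, hr, rfl⟩
  · rintro ⟨x, hx, rfl⟩
    obtain ⟨⟨h1, h2⟩, h3⟩ := mem_omega.mp hx
    refine ⟨⟨⟨x, h1, rfl⟩, ?_⟩, by rw [← map_pow, h3, map_one]⟩
    rintro _ ⟨r, hr, rfl⟩
    rw [← map_mul, ← map_mul, h2 r hr]

end Iso

section PGroup

variable {P : Type*} [Group P] [Finite P] {p : ℕ} [Fact p.Prime]

theorem card_eq_of_mcl (hP : IsPGroup p P) {Q R : Subgroup P} (hQ : Cfsg.IsMinimalCentrallyLarge Q)
    (hR : Cfsg.IsMinimalCentrallyLarge R) : Nat.card Q = Nat.card R :=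
  (S3007.result P hP Q R hQ hR).2.2.1

theorem derived_eq_of_mcl (hP : IsPGroup p P) {Q R : Subgroup P} (hQ : Cfsg.IsMinimalCentrallyLarge Q)
    (hR : Cfsg.IsMinimalCentrallyLarge R) : ⁅Q, Q⁆ = ⁅R, R⁆ :=
  (S3007.result P hP Q R hQ hR).2.1

theorem isMCL_of_card (hP : IsPGroup p P) {X R : Subgroup P} (hX : Cfsg.IsCentrallyLarge X)
    (hR : Cfsg.IsMinimalCentrallyLarge R) (h : Nat.card X ≤ Nat.card R) :
    Cfsg.IsMinimalCentrallyLarge X := by
  obtain ⟨Y, hYX, hY⟩ := exists_minimal_cl_le hX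
  have h1 : Y = X := Subgroup.eq_of_le_of_card_ge hYX (h.trans (card_eq_of_mcl hP hY hR).ge)
  exact h1 ▸ hY

theorem eq_left_of_mul_le {a b c d : ℕ} (ha : a ≤ b) (hc : c ≤ d) (h : b * d ≤ a * c)
    (hd : 0 < d) : a = b :=
  le_antisymm ha (Nat.le_of_mul_le_mul_right (h.trans (Nat.mul_le_mul_left _ hc)) hd)

theorem nat_key {r c rs zs r0 z0 v vr vc k1 k2 : ℕ} (hA : r * vc ≤ r0 * v) (hB : c * vr ≤ z0 * v)
    (hC : r0 * v ≤ rs * k1) (hk1 : k1 ≤ vr) (hD : z0 * v ≤ zs * k2) (hk2 : k2 ≤ vc)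
    (hvr : 0 < vr) (hvc : 0 < vc) : r * c ≤ rs * zs ∧ (rs * zs ≤ r * c → 0 < r → 0 < c →
      r * vc = r0 * v ∧ c * vr = z0 * v ∧ rs * vr = r0 * v) := by
  have hAB : (r * vc) * (c * vr) ≤ (r0 * v) * (z0 * v) := Nat.mul_le_mul hA hB
  have hC' : r0 * v ≤ rs * vr := hC.trans (Nat.mul_le_mul_left _ hk1)
  have hD' : z0 * v ≤ zs * vc := hD.trans (Nat.mul_le_mul_left _ hk2)
  have hCD : (r0 * v) * (z0 * v) ≤ (rs * vr) * (zs * vc) := Nat.mul_le_mul hC' hD'
  have e : (r * vc) * (c * vr) = r * c * (vc * vr) := by ring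
  have e' : (rs * vr) * (zs * vc) = rs * zs * (vc * vr) := by ring
  refine ⟨Nat.le_of_mul_le_mul_right ((e ▸ hAB).trans (e' ▸ hCD)) (Nat.mul_pos hvc hvr),
    fun hle hr hc => ?_⟩
  have hback : (rs * vr) * (zs * vc) ≤ (r * vc) * (c * vr) := by
    rw [e, e']; exact Nat.mul_le_mul_right _ hle
  have hposA : 0 < r * vc := Nat.mul_pos hr hvc
  have hposB : 0 < c * vr := Nat.mul_pos hc hvr
  have h1 : r * vc = r0 * v :=
    eq_left_of_mul_le hA hB (hCD.trans hback) (lt_of_lt_of_le hposB hB)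
  refine ⟨h1, eq_left_of_mul_le hB hA ?_ (lt_of_lt_of_le hposA hA),
    (eq_left_of_mul_le hC' hD' (hback.trans hAB) (lt_of_lt_of_le (lt_of_lt_of_le hposB hB) hD')).symm⟩
  rw [mul_comm (z0 * v), mul_comm (c * vr)]
  exact hCD.trans hback

/-- The abstract configuration inside the `p`-group `S`. -/
structure Repl (p : ℕ) (V Q : Subgroup P) : Prop where
  le : V ≤ Q
  cc_le : Q ≤ cc V
  pow : ∀ v ∈ V, v ^ p = 1
  bound : ∀ X : Subgroup P, Nat.card X * Nat.card ↥(V ⊓ cc X) ≤ Nat.card ↥(X ⊓ Q) * Nat.card V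

variable {V Q : Subgroup P}

omit [Fact p.Prime] in
theorem Repl.V_le (h : Repl p V Q) : V ≤ cc V := h.le.trans h.cc_le

theorem Repl.replace (h : Repl p V Q) (hP : IsPGroup p P) {R : Subgroup P}
    (hR : Cfsg.IsMinimalCentrallyLarge R) :
    Cfsg.IsMinimalCentrallyLarge (V ⊔ (R ⊓ Q)) ∧ V ⊔ (R ⊓ Q) ≤ Q ∧
      (¬ R ≤ Q → ¬ cc R ≤ Q) ∧ V ⊓ R ≤ cc R ∧
      Nat.card R * Nat.card ↥(V ⊓ cc R) = Nat.card ↥(R ⊓ Q) * Nat.card V := by
  obtain ⟨hRl, hRc⟩ := cl_iff.mp hR.1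
  set R0 := R ⊓ Q
  set Z0 := cc R ⊓ Q
  set Rs := V ⊔ R0
  set Zs := V ⊔ Z0
  have hZcc : Zs ≤ cc Rs := by
    rw [cc_sup]
    refine sup_le (le_inf h.V_le ?_) (le_inf (inf_le_right.trans h.cc_le) ?_)
    · exact Subgroup.le_centralizer_iff.mp ((inf_le_right : R0 ≤ Q).trans h.cc_le)
    · exact (inf_le_left : Z0 ≤ cc R).trans (cc_anti inf_le_left)
  have hZR : Zs ≤ Rs := sup_le le_sup_left ((inf_le_inf_right Q hRc).trans le_sup_right)
  have hA := h.bound R
  have hB := h.bound (cc R)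
  rw [← (large_cc hRl).2] at hB
  have hC : Nat.card R0 * Nat.card V ≤ Nat.card Rs * Nat.card ↥(V ⊓ R0) := by
    rw [mul_comm, ← card_prod_mul_card_inf]
    exact Nat.mul_le_mul_right _ (card_prod_le_sup _ _)
  have hD : Nat.card Z0 * Nat.card V ≤ Nat.card Zs * Nat.card ↥(V ⊓ Z0) := by
    rw [mul_comm, ← card_prod_mul_card_inf]
    exact Nat.mul_le_mul_right _ (card_prod_le_sup _ _)
  have hk1 : Nat.card ↥(V ⊓ R0) ≤ Nat.card ↥(V ⊓ R) :=
    Subgroup.card_le_of_le (inf_le_inf_left V inf_le_left)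
  have hk2 : Nat.card ↥(V ⊓ Z0) ≤ Nat.card ↥(V ⊓ cc R) :=
    Subgroup.card_le_of_le (inf_le_inf_left V inf_le_left)
  have hkey := nat_key hA hB hC hk1 hD hk2 Nat.card_pos Nat.card_pos
  have hf : Nat.card R * Nat.card (cc R) = Cfsg.maxCentralizerProduct P := hRl
  obtain ⟨hk, hkeq⟩ := hkey
  rw [hf] at hk hkeq
  have hle := meas_le Rs
  have hzc : Nat.card Zs ≤ Nat.card (cc Rs) := Subgroup.card_le_of_le hZcc
  obtain ⟨e1, e2, e3⟩ := hkeq ((Nat.mul_le_mul_left _ hzc).trans hle) Nat.card_pos Nat.card_pos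
  have hlarge : Cfsg.IsCentralizerLarge Rs := large_of_le (hk.trans (Nat.mul_le_mul_left _ hzc))
  have hZeq : cc Rs = Zs := by
    refine (Subgroup.eq_of_le_of_card_ge hZcc ?_).symm
    exact Nat.le_of_mul_le_mul_left (hle.trans hk) Nat.card_pos
  have hcl : Cfsg.IsCentrallyLarge Rs := cl_iff.mpr ⟨hlarge, hZeq ▸ hZR⟩
  have hge : Nat.card R ≤ Nat.card Rs := by
    obtain ⟨Y, hY, hYm⟩ := exists_minimal_cl_le hcl
    exact (card_eq_of_mcl hP hR hYm).le.trans (Subgroup.card_le_of_le hY)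
  have hVR : Nat.card ↥(V ⊓ cc R) ≤ Nat.card ↥(V ⊓ R) :=
    Subgroup.card_le_of_le (inf_le_inf_left V hRc)
  have hcard : Nat.card Rs = Nat.card R := by
    refine le_antisymm (Nat.le_of_mul_le_mul_right ?_ (Nat.card_pos (α := ↥(V ⊓ R)))) hge
    rw [e3, ← e1]
    exact Nat.mul_le_mul_left _ hVR
  have h12 : Nat.card ↥(V ⊓ cc R) = Nat.card ↥(V ⊓ R) := by
    rw [hcard, ← e1] at e3
    exact (Nat.eq_of_mul_eq_mul_left Nat.card_pos e3).symm
  have hVeq := Subgroup.eq_of_le_of_card_ge (inf_le_inf_left V hRc) h12.ge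
  refine ⟨isMCL_of_card hP hcl hR hcard.le, sup_le h.le inf_le_right, fun hRQ hcQ => hRQ ?_,
    hVeq ▸ inf_le_right, e1⟩
  have hz : Nat.card Z0 = Nat.card (cc R) :=
    congrArg (fun X : Subgroup P => Nat.card X) (inf_eq_left.mpr hcQ : cc R ⊓ Q = cc R)
  rw [hz] at e2
  rw [h12, Nat.eq_of_mul_eq_mul_left Nat.card_pos e2] at e1
  have h8 : Nat.card R = Nat.card R0 := Nat.eq_of_mul_eq_mul_right Nat.card_pos e1
  exact (Subgroup.eq_of_le_of_card_ge inf_le_left h8.le).symm.le.trans inf_le_right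

theorem omega_card_le_max (R : Subgroup P) (hR : Cfsg.IsMinimalCentrallyLarge R) :
    Nat.card ↥(Cfsg.omegaOneCenter p R) ≤ Cfsg.maxOmegaCenterOfMinimalCL p P :=
  le_csSup ((Set.finite_range fun R : Subgroup P => Nat.card ↥(Cfsg.omegaOneCenter p R)).subset
    (by rintro k ⟨X, -, rfl⟩; exact ⟨X, rfl⟩)).bddAbove ⟨R, hR, rfl⟩

theorem Repl.replace_omega (h : Repl p V Q) (hP : IsPGroup p P) {R : Subgroup P}
    (hR : Cfsg.IsMinimalCentrallyLarge R)
    (hmax : Nat.card ↥(Cfsg.omegaOneCenter p R) = Cfsg.maxOmegaCenterOfMinimalCL p P) :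
    Nat.card ↥(Cfsg.omegaOneCenter p (V ⊔ (R ⊓ Q))) = Cfsg.maxOmegaCenterOfMinimalCL p P ∧
      phi p (V ⊔ (R ⊓ Q)) = phi p R := by
  obtain ⟨hm, -, -, hVR, heq⟩ := h.replace hP hR
  obtain ⟨-, hRc⟩ := cl_iff.mp hR.1
  set O := Cfsg.omegaOneCenter p R
  set Rs := V ⊔ (R ⊓ Q) with hRs
  have hO : O ≤ cc R := fun x hx => (mem_omega.mp hx).1.2
  have hOR : O ≤ R := fun x hx => (mem_omega.mp hx).1.1
  have hsub : V ⊔ (O ⊓ Q) ≤ Cfsg.omegaOneCenter p Rs := by
    refine sup_le (fun v hv => mem_omega.mpr ⟨⟨Subgroup.mem_sup_left hv, ?_⟩, h.pow v hv⟩)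
      (fun x hx => mem_omega.mpr ⟨⟨Subgroup.mem_sup_right ⟨hOR hx.1, hx.2⟩, ?_⟩, (mem_omega.mp hx.1).2⟩)
    · rw [hRs, cc_sup]
      exact ⟨h.V_le hv, fun r hr => ((h.cc_le hr.2) v hv).symm⟩
    · rw [hRs, cc_sup]
      exact ⟨h.cc_le hx.2, fun r hr => hO hx.1 r hr.1⟩
  have e1 : V ⊓ (O ⊓ Q) = V ⊓ cc R := by
    refine le_antisymm (le_inf inf_le_left (inf_le_right.trans (inf_le_left.trans hO))) fun x hx => ?_
    exact ⟨hx.1, mem_omega.mpr ⟨⟨hRc hx.2, hx.2⟩, h.pow x hx.1⟩, h.le hx.1⟩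
  have h1 : Nat.card ↥(O ⊓ Q) * Nat.card V ≤
      Nat.card ↥(Cfsg.omegaOneCenter p Rs) * Nat.card ↥(V ⊓ cc R) := by
    rw [← e1, mul_comm, ← card_prod_mul_card_inf]
    exact Nat.mul_le_mul_right _ ((card_prod_le_sup _ _).trans (Subgroup.card_le_of_le hsub))
  have e2 : O ⊓ (R ⊓ Q) = O ⊓ Q := by
    rw [← inf_assoc, inf_eq_left.mpr hOR]
  have h2 : Nat.card O * Nat.card ↥(R ⊓ Q) ≤ Nat.card R * Nat.card ↥(O ⊓ Q) := by
    rw [← e2, ← card_prod_mul_card_inf]
    exact Nat.mul_le_mul_right _ ((card_prod_le_sup _ _).trans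
      (Subgroup.card_le_of_le (sup_le hOR inf_le_left)))
  have hge : Nat.card O ≤ Nat.card ↥(Cfsg.omegaOneCenter p Rs) := by
    refine Nat.le_of_mul_le_mul_right ?_
      (Nat.mul_pos (Nat.card_pos (α := ↥(R ⊓ Q))) (Nat.card_pos (α := V)))
    calc Nat.card O * (Nat.card ↥(R ⊓ Q) * Nat.card V)
        = Nat.card O * Nat.card ↥(R ⊓ Q) * Nat.card V := by ring
      _ ≤ Nat.card R * Nat.card ↥(O ⊓ Q) * Nat.card V := Nat.mul_le_mul_right _ h2
      _ ≤ Nat.card R * (Nat.card ↥(Cfsg.omegaOneCenter p Rs) * Nat.card ↥(V ⊓ cc R)) := by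
        rw [mul_assoc]; exact Nat.mul_le_mul_left _ h1
      _ = _ := by rw [← heq]; ring
  have hRsmax := omega_card_le_max (p := p) Rs hm
  have hoeq : Nat.card ↥(Cfsg.omegaOneCenter p Rs) = Nat.card O :=
    le_antisymm (hmax ▸ hRsmax) hge
  refine ⟨hoeq.trans hmax, ?_⟩
  have hfull : O ⊔ (R ⊓ Q) = R := by
    refine Subgroup.eq_of_le_of_card_ge (sup_le hOR inf_le_left) ?_
    refine Nat.le_of_mul_le_mul_right ?_
      (Nat.mul_pos (Nat.card_pos (α := ↥(O ⊓ Q))) (Nat.card_pos (α := V)))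
    have h3 : Nat.card O * Nat.card ↥(R ⊓ Q) ≤ Nat.card ↥(O ⊔ (R ⊓ Q)) * Nat.card ↥(O ⊓ Q) := by
      rw [← e2, ← card_prod_mul_card_inf]
      exact Nat.mul_le_mul_right _ (card_prod_le_sup _ _)
    rw [hoeq] at h1
    calc Nat.card R * (Nat.card ↥(O ⊓ Q) * Nat.card V)
        ≤ Nat.card R * (Nat.card O * Nat.card ↥(V ⊓ cc R)) := Nat.mul_le_mul_left _ h1
      _ = Nat.card O * Nat.card ↥(R ⊓ Q) * Nat.card V := by
          rw [show Nat.card R * (Nat.card O * Nat.card ↥(V ⊓ cc R))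
            = Nat.card O * (Nat.card R * Nat.card ↥(V ⊓ cc R)) by ring, heq]; ring
      _ ≤ Nat.card ↥(O ⊔ (R ⊓ Q)) * Nat.card ↥(O ⊓ Q) * Nat.card V := Nat.mul_le_mul_right _ h3
      _ = _ := by ring
  calc phi p Rs = phi p (R ⊓ Q) :=
        phi_sup_central ((inf_le_right : R ⊓ Q ≤ Q).trans h.cc_le) h.V_le h.pow
    _ = phi p (O ⊔ (R ⊓ Q)) := (phi_sup_central
        ((inf_le_left : R ⊓ Q ≤ R).trans (Subgroup.le_centralizer_iff.mp hO))
        (hO.trans (cc_anti hOR)) fun x hx => (mem_omega.mp hx).2).symm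
    _ = phi p R := by rw [hfull]

end PGroup

section Situation

variable {G : Type*} [Group G] [Finite G] {p : ℕ} [Fact p.Prime] {S : Sylow p G}

/-- `O_p(G)` as a subgroup of `S`. -/
abbrev QS (S : Sylow p G) : Subgroup (S : Subgroup G) := (Q0 p G).subgroupOf (S : Subgroup G)

theorem map_cc {X : Subgroup (S : Subgroup G)} :
    (cc X).map (S : Subgroup G).subtype =
      (S : Subgroup G) ⊓ Subgroup.centralizer ((X.map (S : Subgroup G).subtype : Subgroup G) : Set G) := by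
  ext y
  constructor
  · rintro ⟨x, hx, rfl⟩
    refine ⟨x.2, ?_⟩
    rintro _ ⟨r, hr, rfl⟩
    exact congrArg Subtype.val (hx r hr)
  · rintro ⟨hy, hc⟩
    exact ⟨⟨y, hy⟩, fun r hr => Subtype.ext (hc _ ⟨r, hr, rfl⟩), rfl⟩

theorem Module'.repl {D : Sit p S} (m : Module' D) :
    Repl p (m.V.subgroupOf (S : Subgroup G)) (QS S) where
  le := fun _ hv => m.le_Q0 hv
  cc_le := fun q hq v hv => Subtype.ext (m.le_cc hv q hq).symm
  pow := fun v hv => Subtype.ext (by simpa using m.pow v hv)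
  bound := fun X => by
    have hinj := (S : Subgroup G).subtype_injective
    have hX : X.map (S : Subgroup G).subtype ≤ S := Subgroup.map_subtype_le X
    have hV : m.V ≤ (S : Subgroup G) := m.le_Q0.trans (Q0_le_sylow S)
    have h := m.le_index hX
    have e1 : (m.V.subgroupOf (S : Subgroup G) ⊓ cc X).map (S : Subgroup G).subtype =
        m.V ⊓ Subgroup.centralizer ((X.map (S : Subgroup G).subtype : Subgroup G) : Set G) := by
      rw [Subgroup.map_inf _ _ _ hinj, map_cc, Subgroup.subgroupOf_map_subtype, inf_eq_left.mpr hV,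
        ← inf_assoc, inf_eq_left.mpr hV]
    have e2 : (X ⊓ QS S).map (S : Subgroup G).subtype = X.map (S : Subgroup G).subtype ⊓ Q0 p G := by
      rw [Subgroup.map_inf _ _ _ hinj, Subgroup.subgroupOf_map_subtype,
        inf_eq_left.mpr (Q0_le_sylow S)]
    rw [← e1, ← e2, Subgroup.card_map_of_injective hinj, Subgroup.card_map_of_injective hinj,
      Subgroup.card_map_of_injective hinj] at h
    rwa [Nat.card_congr (Subgroup.subgroupOfEquivOfLe hV).toEquiv]

/-- Conjugation by `g`, as a map from `O_p(G)` into `S`. -/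
noncomputable def conjQ (S : Sylow p G) (g : G) : QS S →* (S : Subgroup G) where
  toFun q := ⟨g * ((q : (S : Subgroup G)) : G) * g⁻¹,
    Q0_le_sylow S (pCore_normal.conj_mem _ q.2 g)⟩
  map_one' := Subtype.ext (by simp)
  map_mul' a b := Subtype.ext (by simp [mul_assoc])

theorem conjQ_injective (g : G) : Function.Injective (conjQ S g) := by
  intro a b h
  have := congrArg Subtype.val h
  exact Subtype.ext (Subtype.ext (mul_left_cancel (mul_right_cancel this)))

/-- The conjugate of a subgroup of `O_p(G)`. -/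
noncomputable def conjSub (S : Sylow p G) (g : G) (X : Subgroup (S : Subgroup G)) :
    Subgroup (S : Subgroup G) := (X.subgroupOf (QS S)).map (conjQ S g)

theorem conjSub_map (g : G) {X : Subgroup (S : Subgroup G)} (hX : X ≤ QS S) :
    (conjSub S g X).map (S : Subgroup G).subtype =
      (X.map (S : Subgroup G).subtype).map (MulAut.conj g).toMonoidHom := by
  ext y
  constructor
  · rintro ⟨_, ⟨q, hq, rfl⟩, rfl⟩
    exact ⟨_, ⟨q, hq, rfl⟩, rfl⟩
  · rintro ⟨_, ⟨x, hx, rfl⟩, rfl⟩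
    exact ⟨_, ⟨⟨x, hX hx⟩, hx, rfl⟩, rfl⟩

theorem conjSub_facts (g : G) {X : Subgroup (S : Subgroup G)} (hX : X ≤ QS S)
    (hm : Cfsg.IsMinimalCentrallyLarge X) :
    Cfsg.IsMinimalCentrallyLarge (conjSub S g X) ∧
      Nat.card ↥(Cfsg.omegaOneCenter p (conjSub S g X)) = Nat.card ↥(Cfsg.omegaOneCenter p X) := by
  set X' := X.subgroupOf (QS S)
  have hinj := conjQ_injective (S := S) g
  have hinj' := (QS S).subtype_injective
  have hXX : X'.map (QS S).subtype = X := by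
    rw [Subgroup.subgroupOf_map_subtype, inf_eq_left.mpr hX]
  have h1 : Nat.card ↥(conjSub S g X) = Nat.card X := by
    conv_rhs => rw [← hXX]
    rw [conjSub, Subgroup.card_map_of_injective hinj, Subgroup.card_map_of_injective hinj']
  have h2 : Nat.card (Subgroup.center ↥(conjSub S g X)) = Nat.card (Subgroup.center ↥X) := by
    conv_rhs => rw [← hXX]
    rw [conjSub, center_card_map _ hinj, center_card_map _ hinj']
  have hcl : Cfsg.IsCentrallyLarge (conjSub S g X) := by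
    show _ * _ = _
    rw [h1, h2]
    exact hm.1
  refine ⟨isMCL_of_card S.isPGroup' hcl hm h1.le, ?_⟩
  conv_rhs => rw [← hXX]
  rw [conjSub, omega_map _ hinj, omega_map _ hinj', Subgroup.card_map_of_injective hinj,
    Subgroup.card_map_of_injective hinj']

/-- The image in `G` of a join of subgroups is normal if every conjugate of a term is inside it. -/
theorem iSup_map_normal {ι : Type*} (f : ι → Subgroup (S : Subgroup G))
    (h : ∀ i (g : G), ((f i).map (S : Subgroup G).subtype).map (MulAut.conj g).toMonoidHom ≤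
      (⨆ i, f i).map (S : Subgroup G).subtype) :
    ((⨆ i, f i).map (S : Subgroup G).subtype).Normal := by
  refine ⟨fun x hx g => ?_⟩
  have hle : ((⨆ i, f i).map (S : Subgroup G).subtype).map (MulAut.conj g).toMonoidHom ≤
      (⨆ i, f i).map (S : Subgroup G).subtype := by
    conv_lhs => rw [Subgroup.map_iSup, Subgroup.map_iSup]
    exact iSup_le fun i => h i g
  exact hle ⟨x, hx, rfl⟩

/-- The join of the maximal minimal centrally large subgroups' Frattini subgroups is normal. -/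
theorem frattiniJoin_normal {D : Sit p S} (m : Module' D) :
    ((Cfsg.frattiniOfMinimalCLJoin p ↥(S : Subgroup G)).map (S : Subgroup G).subtype).Normal := by
  refine iSup_map_normal _ fun ⟨R, hR, hmax⟩ g => ?_
  obtain ⟨h1, h2, -, -, -⟩ := m.repl.replace S.isPGroup' hR
  obtain ⟨h3, h4⟩ := m.repl.replace_omega S.isPGroup' hR hmax
  obtain ⟨h5, h6⟩ := conjSub_facts g h2 h1
  refine le_trans (le_of_eq ?_) (Subgroup.map_mono (le_iSup _
    (⟨conjSub S g _, h5, h6.trans h3⟩ : {X : Subgroup (S : Subgroup G) // _})))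
  rw [frattini_map S.isPGroup', frattini_map S.isPGroup', ← h4, phi_map, phi_map, phi_map,
    conjSub_map g h2]

/-- Either every minimal centrally large subgroup of `S` lies in `O_p(G)`, or the common derived
subgroup meets `Z(S)` in a normal subgroup. -/
theorem derived_or_mcl_normal {D : Sit p S} (m : Module' D) {Q : Subgroup (S : Subgroup G)}
    (hQ : Cfsg.IsMinimalCentrallyLarge Q) :
    (((S : Subgroup G) ⊓ Subgroup.centralizer ((S : Subgroup G) : Set G)) ⊓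
        (⁅Q, Q⁆).map (S : Subgroup G).subtype).Normal ∨
      ((Cfsg.minimalCentrallyLargeJoin ↥(S : Subgroup G)).map (S : Subgroup G).subtype).Normal := by
  by_cases hall : ∀ R : Subgroup (S : Subgroup G), Cfsg.IsMinimalCentrallyLarge R → R ≤ QS S
  · refine Or.inr ?_
    have he : Cfsg.minimalCentrallyLargeJoin ↥(S : Subgroup G) =
        ⨆ X : {X : Subgroup (S : Subgroup G) // Cfsg.IsMinimalCentrallyLarge X}, X.1 :=
      sSup_eq_iSup'
        ({X : Subgroup (S : Subgroup G) | Cfsg.IsMinimalCentrallyLarge X} : Set _)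
    rw [he]
    refine iSup_map_normal _ fun R g => ?_
    have hle : conjSub S g R.1 ≤
        ⨆ X : {X : Subgroup (S : Subgroup G) // Cfsg.IsMinimalCentrallyLarge X}, X.1 :=
      le_iSup (fun X : {X : Subgroup (S : Subgroup G) // Cfsg.IsMinimalCentrallyLarge X} => X.1)
        ⟨conjSub S g R.1, (conjSub_facts g (hall R.1 R.2) R.2).1⟩
    exact (conjSub_map g (hall R.1 R.2)).ge.trans (Subgroup.map_mono hle)
  · push_neg at hall
    obtain ⟨R, hR, hRQ⟩ := hall
    refine Or.inl ?_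
    obtain ⟨h1, h2, h3, -, -⟩ := m.repl.replace S.isPGroup' hR
    set Rs := m.V.subgroupOf (S : Subgroup G) ⊔ (R ⊓ QS S)
    set K := (⁅Q, Q⁆).map (S : Subgroup G).subtype with hK
    have hKn : K.Normal := ⟨fun x hx g => by
      have e : K.map (MulAut.conj g).toMonoidHom = K := by
        rw [hK, derived_eq_of_mcl S.isPGroup' hQ h1, Subgroup.map_commutator, Subgroup.map_commutator,
          ← conjSub_map g h2, ← Subgroup.map_commutator,
          derived_eq_of_mcl S.isPGroup' (conjSub_facts g h2 h1).1 h1, Subgroup.map_commutator]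
      exact e.le ⟨x, hx, rfl⟩⟩
    have hC : ∀ y ∈ (cc R).map (S : Subgroup G).subtype,
        y ∈ Subgroup.centralizer (K : Set G) ⊓ (S : Subgroup G) := by
      rintro _ ⟨y, hy, rfl⟩
      refine ⟨?_, y.2⟩
      rintro _ ⟨k, hk, rfl⟩
      have hkR : k ∈ R := by
        rw [derived_eq_of_mcl S.isPGroup' hQ hR] at hk
        exact Subgroup.commutator_le_self R hk
      exact congrArg Subtype.val (hy k hkR)
    have hnle : ¬ Subgroup.centralizer (K : Set G) ⊓ (S : Subgroup G) ≤ Q0 p G := by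
      intro hle
      exact h3 hRQ fun y hy => hle (hC _ ⟨y, hy, rfl⟩)
    have htop := (D.inter_le_or (Subgroup.centralizer (K : Set G))).resolve_left hnle
    refine ⟨fun x hx g => ?_⟩
    have hfix : g * x = x * g := by
      obtain ⟨⟨hxS, hxZ⟩, hxK⟩ := hx
      have hle : Subgroup.centralizer (K : Set G) ⊔ (S : Subgroup G) ≤ Subgroup.centralizer ({x} : Set G) :=
        sup_le (fun c hc => Subgroup.mem_centralizer_singleton_iff.mpr (hc x hxK).symm)
          (fun s hs => Subgroup.mem_centralizer_singleton_iff.mpr (hxZ s hs))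
      rw [htop] at hle
      exact Subgroup.mem_centralizer_singleton_iff.mp (hle (Subgroup.mem_top g))
    rw [hfix, mul_inv_cancel_right]
    exact hx

end Situation

end Cfsg.Agent.H46.PushUp

namespace Cfsg.Agent.H46.PushUp

open Cfsg.Agent Linear Linear.Dickson in
/-- A Sylow `p`-subgroup of `PSL₂(p^n)` is not normal. -/
theorem sylow_not_normal {F : Type*} [Field F] [Fintype F] {p n : ℕ} [Fact p.Prime]
    (hF : Fintype.card F = p ^ n) (P : Sylow p (Matrix.ProjectiveSpecialLinearGroup (Fin 2) F)) :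
    ¬ (P : Subgroup (Matrix.ProjectiveSpecialLinearGroup (Fin 2) F)).Normal := by
  intro hn
  have := hn
  let U : Sylow p (Matrix.ProjectiveSpecialLinearGroup (Fin 2) F) :=
    (isPGroup_range hF).toSylow (coprime_index_range hF)
  obtain ⟨c, hc⟩ := MulAction.exists_smul_eq (Matrix.ProjectiveSpecialLinearGroup (Fin 2) F) P U
  have hPU : (P : Subgroup (Matrix.ProjectiveSpecialLinearGroup (Fin 2) F)) = (upHom (F := F)).range := by
    rw [Sylow.smul_eq_iff_mem_normalizer.mpr (Subgroup.normalizer_eq_top (H := (P : Subgroup (Matrix.ProjectiveSpecialLinearGroup (Fin 2) F))) ▸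
      Subgroup.mem_top c)] at hc
    rw [hc]; rfl
  rw [hPU] at hn
  let w : Matrix.SpecialLinearGroup (Fin 2) F := compSL 0
  obtain ⟨b, hb⟩ := hn.conj_mem _ ⟨Multiplicative.ofAdd (1 : F), rfl⟩ (proj w)
  replace hb : proj (upSL b.toAdd) = proj (w * upSL 1 * w⁻¹) := by
    rw [map_mul, map_mul, map_inv]
    exact hb
  rcases proj_eq_iff.mp hb with e | e
  all_goals
    have e' := congrArg (fun M : Matrix.SpecialLinearGroup (Fin 2) F =>
      (M : Matrix (Fin 2) (Fin 2) F) 1 0) e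
    simp [w, SL_mul_entries, compSL_coe, upSL_coe, (SL_inv_entries (compSL (0 : F))).1,
      (SL_inv_entries (compSL (0 : F))).2.1, (SL_inv_entries (compSL (0 : F))).2.2.1,
      (SL_inv_entries (compSL (0 : F))).2.2.2, Matrix.SpecialLinearGroup.coe_neg] at e'

variable {G : Type*} [Group G] [Finite G] {p : ℕ} [Fact p.Prime] {S : Sylow p G}

theorem not_le_Q0 (D : Sit p S) : ¬ (S : Subgroup G) ≤ Q0 p G := by
  intro h
  have hn : (S : Subgroup G).Normal := by
    rw [le_antisymm h (Q0_le_sylow S)]; exact pCore_normal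
  exact sylow_not_normal D.hF D.imgS (hn.map D.π D.hπ)

/-- If `Z(S)` is normal then each of its subgroups is normal. -/
theorem normal_of_le_center (D : Sit p S)
    (hZ : ((S : Subgroup G) ⊓ Subgroup.centralizer ((S : Subgroup G) : Set G)).Normal) {X : Subgroup G}
    (hX : X ≤ (S : Subgroup G) ⊓ Subgroup.centralizer ((S : Subgroup G) : Set G)) : X.Normal := by
  set Z := (S : Subgroup G) ⊓ Subgroup.centralizer ((S : Subgroup G) : Set G)
  have hS : (S : Subgroup G) ≤ Subgroup.centralizer (Z : Set G) :=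
    Subgroup.le_centralizer_iff.mp inf_le_right
  have htop := (D.inter_le_or (Subgroup.centralizer (Z : Set G))).resolve_left fun h =>
    not_le_Q0 D ((le_inf hS le_rfl).trans h)
  rw [sup_eq_left.mpr hS] at htop
  refine ⟨fun x hx g => ?_⟩
  have hg : g ∈ Subgroup.centralizer (Z : Set G) := htop ▸ Subgroup.mem_top g
  rw [← hg x (hX hx), mul_inv_cancel_right]
  exact hx

end Cfsg.Agent.H46.PushUp
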