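import Cfsg.Agent.H46.PushUp.L2
import Cfsg.Agent.H62.CD
import Cfsg.Agent.H78.SylowCount
import Cfsg.Prelude.Def_BaumannBlocks

/-!
# The failure-of-factorisation bound in a pushing-up situation
-/

set_option autoImplicit false
open scoped Pointwise

namespace Cfsg.Agent.H46.PushUp

open Cfsg.Agent

variable {G : Type*} [Group G] {p : ℕ}

/-- `O_p(G)`. -/
abbrev Q0 (p : ℕ) (G : Type*) [Group G] : Subgroup G := Cfsg.pCore p G

theorem pCore_normal : (Q0 p G).Normal :=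
  Subgroup.sSup_normal _ fun _ hN => hN.1

theorem le_Q0 {N : Subgroup G} (hn : N.Normal) (hp : IsPGroup p N) : N ≤ Q0 p G :=
  le_sSup ⟨hn, hp⟩

theorem Q0_le_sylow [Finite G] [Fact p.Prime] (P : Sylow p G) : Q0 p G ≤ P := by
  refine sSup_le fun N hN => ?_
  obtain ⟨hn, hp⟩ := hN
  obtain ⟨R, hR⟩ := hp.exists_le_sylow
  obtain ⟨g, hg⟩ := MulAction.exists_smul_eq G R P
  rw [← hg]
  intro x hx
  refine ⟨g⁻¹ * x * g, hR (by simpa using hn.conj_mem x hx g⁻¹), ?_⟩
  show g * (g⁻¹ * x * g) * g⁻¹ = x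
  group

/-- `PSL₂` is not a `p`-group for the characteristic `p`. -/
theorem not_isPGroup_PSL {p n : ℕ} [Fact p.Prime] {F : Type*} [Field F] [Fintype F]
    (hF : Fintype.card F = p ^ n) : ¬ IsPGroup p (Matrix.ProjectiveSpecialLinearGroup (Fin 2) F) := by
  intro h
  obtain ⟨P⟩ := Sylow.nonempty (p := p) (G := Matrix.ProjectiveSpecialLinearGroup (Fin 2) F)
  have hP : (P : Subgroup (Matrix.ProjectiveSpecialLinearGroup (Fin 2) F)) = ⊤ :=
    (P.3 (h.to_subgroup ⊤) le_top).symm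
  have h1 := card_sylow hF P
  rw [hP, Subgroup.card_top] at h1
  have h2 := Linear.card_PSL_two_mul (F := F)
  rw [h1, hF, mul_comm] at h2
  have h3 := Nat.eq_of_mul_eq_mul_left (Nat.pow_pos (Fact.out : p.Prime).pos) h2
  have h4 : Nat.gcd 2 (p ^ n - 1) ≤ 2 := Nat.gcd_le_left _ two_pos
  have h5 : 2 ≤ p ^ n := hF ▸ Fintype.one_lt_card
  have h6 : 4 ≤ (p ^ n) ^ 2 := Nat.pow_le_pow_left h5 2
  omega

theorem centralizer_map_conj {G : Type*} [Group G] (T : Subgroup G) (k : G) :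
    Subgroup.centralizer ((T.map (MulAut.conj k).toMonoidHom : Subgroup G) : Set G) =
      (Subgroup.centralizer (T : Set G)).map (MulAut.conj k).toMonoidHom := by
  ext x
  rw [Subgroup.mem_map_equiv, MulAut.conj_symm_apply]
  constructor
  · intro h t ht
    have := h (k * t * k⁻¹) ⟨t, ht, rfl⟩
    apply mul_left_cancel (a := k)
    apply mul_right_cancel (b := k⁻¹)
    calc k * (t * (k⁻¹ * x * k)) * k⁻¹ = k * t * k⁻¹ * x := by group
      _ = x * (k * t * k⁻¹) := this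
      _ = _ := by group
  · rintro h _ ⟨t, ht, rfl⟩
    calc k * t * k⁻¹ * x = k * (t * (k⁻¹ * x * k)) * k⁻¹ := by group
      _ = k * ((k⁻¹ * x * k) * t) * k⁻¹ := by rw [h t ht]
      _ = _ := by
        show _ = x * (k * t * k⁻¹)
        group

/-- A pushing-up situation, in unfolded form. -/
structure Sit (p : ℕ) (S : Sylow p G) where
  /-- the maximal subgroup containing `S` -/
  M : Subgroup G
  hM : M ≠ ⊤
  le_M : ∀ X : Subgroup G, (S : Subgroup G) ≤ X → X ≠ ⊤ → X ≤ M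
  hcharp : Subgroup.centralizer (Q0 p G : Set G) ≤ Q0 p G
  /-- the field -/
  F : Type
  [fld : Field F]
  [fin : Fintype F]
  /-- the exponent -/
  n : ℕ
  hF : Fintype.card F = p ^ n
  /-- the map onto `PSL₂` -/
  π : G →* Matrix.ProjectiveSpecialLinearGroup (Fin 2) F
  hπ : Function.Surjective π

theorem exists_sit [Finite G] {S : Subgroup G} (h : Cfsg.IsPushingUpSituation p S) :
    ∃ P : Sylow p G, (P : Subgroup G) = S ∧ Nonempty (Sit p P) := by
  obtain ⟨-, ⟨P, rfl⟩, hC, ⟨M, ⟨hM, hSM⟩, hu⟩, K, hK, F, hFd, hFf, n, hn, ⟨e⟩⟩ := h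
  refine ⟨P, rfl, ⟨⟨M, hM.1, fun X hX hne => ?_, hC, F, n, hn,
    e.toMonoidHom.comp (QuotientGroup.mk' K), e.surjective.comp (QuotientGroup.mk'_surjective K)⟩⟩⟩
  obtain ⟨M', hM', hle⟩ := (eq_top_or_exists_le_coatom X).resolve_left hne
  exact hu M' ⟨hM', hX.trans hle⟩ ▸ hle

attribute [instance] Sit.fld Sit.fin

namespace Sit

variable [Finite G] [Fact p.Prime] {S : Sylow p G} (D : Sit p S)

include D in
theorem hp : p.Prime := Fact.out

/-- A normal subgroup meets `S` inside `O_p(G)` or, together with `S`, generates `G`. -/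
theorem inter_le_or (D : Sit p S) (N : Subgroup G) [N.Normal] :
    N ⊓ (S : Subgroup G) ≤ Q0 p G ∨ N ⊔ (S : Subgroup G) = ⊤ := by
  refine Classical.or_iff_not_imp_right.mpr fun h => ?_
  have hNM : N ≤ D.M := le_sup_left.trans (D.le_M _ le_sup_right h)
  obtain ⟨Q, hQ⟩ := H78.exists_sylow_inf_normal N S
  have hfr := Sylow.normalizer_sup_eq_top Q
  rw [hQ] at hfr
  have hSn : (S : Subgroup G) ≤ Subgroup.normalizer (((S : Subgroup G) ⊓ N : Subgroup G) : Set G) := by
    intro s hs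
    refine Subgroup.mem_normalizer_iff.mpr fun x => ?_
    simp only [SetLike.mem_coe, Subgroup.mem_inf]
    constructor
    · rintro ⟨h1, h2⟩
      exact ⟨mul_mem (mul_mem hs h1) (inv_mem hs), Subgroup.Normal.conj_mem inferInstance x h2 s⟩
    · rintro ⟨h1, h2⟩
      have h3 := mul_mem (mul_mem (inv_mem hs) h1) hs
      have h4 := Subgroup.Normal.conj_mem (inferInstance : N.Normal) _ h2 s⁻¹
      exact ⟨by convert h3 using 1; group, by convert h4 using 1; group⟩
  by_cases htop : Subgroup.normalizer (((S : Subgroup G) ⊓ N : Subgroup G) : Set G) = ⊤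
  · rw [inf_comm]
    exact le_Q0 (Subgroup.normalizer_eq_top_iff.mp htop) (S.isPGroup'.to_le inf_le_left)
  · refine absurd (eq_top_iff.mpr ?_) D.hM
    rw [← hfr]
    exact sup_le (D.le_M _ hSn htop) hNM

/-- `G` is generated by `S` and any subgroup not in `M`. -/
theorem sup_eq_top (D : Sit p S) {X : Subgroup G} (h : ¬ X ≤ D.M) : (S : Subgroup G) ⊔ X = ⊤ := by
  by_contra hne
  exact h (le_sup_right.trans (D.le_M _ le_sup_left hne))

theorem exists_conj_not_le (D : Sit p S) {X : Subgroup G} (hX : X ≤ S) (hXQ : ¬ X ≤ Q0 p G) :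
    ∃ g : G, ¬ X.map (MulAut.conj g).toMonoidHom ≤ D.M := by
  by_contra h
  have hle : ∀ g : G, ∀ x ∈ X, g * x * g⁻¹ ∈ D.M := fun g x hx => by
    by_contra hn
    exact h ⟨g, fun hl => hn (hl ⟨x, hx, rfl⟩)⟩
  have hc : Subgroup.normalClosure (X : Set G) ≤ D.M :=
    (Subgroup.closure_le _).mpr fun y hy => by
      obtain ⟨x, hx, hxy⟩ := Group.mem_conjugatesOfSet_iff.mp hy
      obtain ⟨g, rfl⟩ := isConj_iff.mp hxy
      exact hle g x hx
  rcases D.inter_le_or (Subgroup.normalClosure (X : Set G)) with h1 | h1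
  · exact hXQ ((le_inf (Subgroup.le_normalClosure) hX).trans h1)
  · refine D.hM (eq_top_iff.mpr (h1.ge.trans (sup_le hc ?_)))
    by_cases hS : (S : Subgroup G) = ⊤
    · exact (hXQ (hX.trans (le_Q0 (hS ▸ inferInstance) S.isPGroup'))).elim
    · exact D.le_M _ le_rfl hS

theorem S_le_M (D : Sit p S) : (S : Subgroup G) ≤ D.M := by
  refine D.le_M _ le_rfl fun hS => ?_
  obtain ⟨hc, hn⟩ := H59.charP_of_card_eq D.hF
  have hP : IsPGroup p (Matrix.ProjectiveSpecialLinearGroup (Fin 2) D.F) := by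
    refine IsPGroup.of_surjective ?_ D.π D.hπ
    exact fun x => by
      obtain ⟨k, hk⟩ := S.isPGroup' ⟨x, hS ▸ Subgroup.mem_top x⟩
      exact ⟨k, by simpa using congrArg Subtype.val hk⟩
  exact not_isPGroup_PSL D.hF hP

theorem ker_inter_le (D : Sit p S) : D.π.ker ⊓ (S : Subgroup G) ≤ Q0 p G := by
  refine (D.inter_le_or D.π.ker).resolve_right fun h => not_isPGroup_PSL D.hF ?_
  have hmap : (S : Subgroup G).map D.π = ⊤ := by
    have := congrArg (Subgroup.map D.π) h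
    rwa [Subgroup.map_sup, (Subgroup.map_eq_bot_iff _).mpr le_rfl, bot_sup_eq,
      Subgroup.map_top_of_surjective _ D.hπ] at this
  exact (hmap ▸ S.isPGroup'.map D.π : IsPGroup p (⊤ : Subgroup _)).of_equiv Subgroup.topEquiv

/-- The image of `S`. -/
noncomputable def imgS (D : Sit p S) : Sylow p (Matrix.ProjectiveSpecialLinearGroup (Fin 2) D.F) :=
  Sylow.mapSurjective D.hπ S

theorem card_S_le (D : Sit p S) :
    Nat.card (S : Subgroup G) ≤ p ^ D.n * Nat.card (Q0 p G) := by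
  set f : (S : Subgroup G) →* D.imgS := D.π.subgroupMap (S : Subgroup G) with hf
  have hker : Nat.card f.ker ≤ Nat.card (Q0 p G) := by
    refine Nat.card_le_card_of_injective (fun x => ⟨((x : (S : Subgroup G)) : G),
      D.ker_inter_le ⟨congrArg Subtype.val (MonoidHom.mem_ker.mp x.2), x.1.2⟩⟩) ?_
    intro a b h
    exact Subtype.ext (Subtype.ext (congrArg Subtype.val h :))
  have h1 := Subgroup.card_mul_index f.ker
  rw [Subgroup.index_ker] at h1
  have h2 : Nat.card f.range ≤ p ^ D.n := by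
    rw [← card_sylow D.hF D.imgS]
    exact Nat.card_le_card_of_injective (fun x => x.1) fun a b h => Subtype.ext h
  calc Nat.card (S : Subgroup G) = Nat.card f.ker * Nat.card f.range := h1.symm
    _ ≤ Nat.card (Q0 p G) * p ^ D.n := Nat.mul_le_mul hker h2
    _ = _ := mul_comm _ _

end Sit

/-- The module used in the pushing-up argument. -/
structure Module' [Finite G] [Fact p.Prime] {S : Sylow p G} (D : Sit p S) where
  /-- the module -/
  V : Subgroup G
  normal : V.Normal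
  le_Q0 : V ≤ Q0 p G
  le_cc : V ≤ Subgroup.centralizer (Q0 p G : Set G)
  pow : ∀ v ∈ V, v ^ p = 1
  cent : Subgroup.centralizer (V : Set G) ⊓ (S : Subgroup G) ≤ Q0 p G

variable [Finite G] [Fact p.Prime] {S : Sylow p G}

theorem exists_module (D : Sit p S)
    (hZ : ¬ ((S : Subgroup G) ⊓ Subgroup.centralizer ((S : Subgroup G) : Set G)).Normal) :
    Nonempty (Module' D) := by
  classical
  have hp : p.Prime := Fact.out
  set Z := (S : Subgroup G) ⊓ Subgroup.centralizer ((S : Subgroup G) : Set G) with hZdef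
  have hQn : (Q0 p G).Normal := pCore_normal
  have hex : ∃ z ∈ Z, z ∉ Subgroup.center G := by
    by_contra h
    refine hZ ⟨fun x hx g => ?_⟩
    have hc : x ∈ Subgroup.center G := by_contra fun hn => h ⟨x, hx, hn⟩
    rwa [Subgroup.mem_center_iff.mp hc g, mul_inv_cancel_right]
  obtain ⟨z, ⟨hzZ, hzc⟩, hmin⟩ := (Set.toFinite {z : G | z ∈ Z ∧ z ∉ Subgroup.center G}).exists_minimalFor
    orderOf _ hex
  have hzp : z ^ p ∈ Subgroup.center G := by
    by_contra h
    obtain ⟨k, hk⟩ := S.isPGroup' ⟨z, hzZ.1⟩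
    have hk' : z ^ p ^ k = 1 := by simpa using congrArg Subtype.val hk
    obtain ⟨m, -, hm⟩ := (Nat.dvd_prime_pow hp).mp (orderOf_dvd_of_pow_eq_one hk')
    have hdvd : orderOf (z ^ p) ∣ orderOf z := orderOf_pow_dvd p
    have hge := hmin ⟨Z.pow_mem hzZ p, h⟩ (Nat.le_of_dvd (orderOf_pos z) hdvd)
    rcases m with _ | m
    · exact hzc (by rw [orderOf_eq_one_iff.mp (hm.trans (pow_zero p))]; exact one_mem _)
    · have h2 : orderOf (z ^ p) = p ^ m := by
        rw [orderOf_pow' _ hp.pos.ne', hm, Nat.gcd_eq_right (dvd_pow_self p m.succ_ne_zero),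
          pow_succ, Nat.mul_div_cancel _ hp.pos]
      rw [h2, hm, pow_succ] at hge
      have := Nat.one_lt_pow (n := 1) one_ne_zero hp.one_lt
      rw [pow_one] at this
      have h3 : 0 < p ^ m := Nat.pow_pos hp.pos
      nlinarith
  have hQS : Q0 p G ≤ S := Q0_le_sylow S
  have hzC : z ∈ Subgroup.centralizer (Q0 p G : Set G) := fun q hq => hzZ.2 q (hQS hq)
  have hzQ : z ∈ Q0 p G := D.hcharp hzC
  have hcomm : ∀ {x y : G}, x ∈ Q0 p G → y ∈ Subgroup.centralizer (Q0 p G : Set G) → x * y = y * x :=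
    fun hx hy => hy _ hx
  let V : Subgroup G :=
    { carrier := {x | x ∈ Q0 p G ∧ x ∈ Subgroup.centralizer (Q0 p G : Set G) ∧ x ^ p = 1}
      one_mem' := ⟨one_mem _, one_mem _, one_pow _⟩
      mul_mem' := fun {a b} ha hb => ⟨mul_mem ha.1 hb.1, mul_mem ha.2.1 hb.2.1, by
        rw [(show Commute a b from hcomm ha.1 hb.2.1).mul_pow, ha.2.2, hb.2.2, mul_one]⟩
      inv_mem' := fun {a} ha => ⟨inv_mem ha.1, inv_mem ha.2.1, by rw [inv_pow, ha.2.2, inv_one]⟩ }
  have hVn : V.Normal := ⟨fun x hx g => ⟨hQn.conj_mem x hx.1 g,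
    (inferInstance : (Subgroup.centralizer (Q0 p G : Set G)).Normal).conj_mem x hx.2.1 g,
    by rw [conj_pow, hx.2.2, mul_one, mul_inv_cancel]⟩⟩
  have hv : ∀ g : G, g * z * g⁻¹ * z⁻¹ ∈ V := fun g => by
    have h1 : g * z * g⁻¹ ∈ Q0 p G := hQn.conj_mem z hzQ g
    refine ⟨mul_mem h1 (inv_mem hzQ), mul_mem
      ((inferInstance : (Subgroup.centralizer (Q0 p G : Set G)).Normal).conj_mem z hzC g) (inv_mem hzC), ?_⟩
    rw [(show Commute (g * z * g⁻¹) z⁻¹ from (show Commute (g * z * g⁻¹) z from hcomm h1 hzC).inv_right).mul_pow,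
      conj_pow, inv_pow, Subgroup.mem_center_iff.mp hzp g, mul_inv_cancel_right, mul_inv_cancel]
  refine ⟨⟨V, hVn, fun x hx => hx.1, fun x hx => hx.2.1, fun x hx => hx.2.2, ?_⟩⟩
  set C := Subgroup.centralizer (V : Set G) with hC
  refine (D.inter_le_or C).resolve_right fun htop => hzc ?_
  let φ : C →* G :=
    { toFun := fun c => (c : G) * z * (c : G)⁻¹ * z⁻¹
      map_one' := by simp
      map_mul' := fun c d => by
        have h1 : (d : G) * z * (d : G)⁻¹ * z⁻¹ ∈ V := hv d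
        have h2 := c.2 _ h1
        have h3 : (c : G) * z * (c : G)⁻¹ * z⁻¹ * ((d : G) * z * (d : G)⁻¹ * z⁻¹) =
            ((d : G) * z * (d : G)⁻¹ * z⁻¹) * ((c : G) * z * (c : G)⁻¹ * z⁻¹) :=
          hcomm (hv c).1 (hv d).2.1 |>.trans rfl
        rw [Subgroup.coe_mul, h3]
        calc (c : G) * d * z * ((c : G) * d)⁻¹ * z⁻¹
            = ((c : G) * ((d : G) * z * (d : G)⁻¹ * z⁻¹)) * z * (c : G)⁻¹ * z⁻¹ := by group
          _ = (((d : G) * z * (d : G)⁻¹ * z⁻¹) * c) * z * (c : G)⁻¹ * z⁻¹ := by rw [h2]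
          _ = _ := by group }
  obtain ⟨Q, hQ⟩ := H78.exists_sylow_inf_normal C S
  have hker : ∀ R : Sylow p C, ∀ c ∈ (R : Subgroup C), φ c = 1 := by
    intro R c hc
    obtain ⟨d, rfl⟩ := MulAction.exists_smul_eq C Q R
    obtain ⟨s, hs, rfl⟩ := hc
    have hs' : φ s = 1 := by
      have hsS : (s : G) ∈ (S : Subgroup G) :=
        ((hQ ▸ ⟨s, hs, rfl⟩ : (s : G) ∈ (S : Subgroup G) ⊓ C)).1
      show (s : G) * z * (s : G)⁻¹ * z⁻¹ = 1
      rw [hzZ.2 _ hsS, mul_inv_cancel_right, mul_inv_cancel]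
    show φ (d * s * d⁻¹) = 1
    rw [map_mul, map_mul, map_inv, hs', mul_one, mul_inv_cancel]
  have hall : ∀ c : C, φ c = 1 := by
    intro c
    have h1 : φ c ^ p = 1 := (hv c).2.2
    obtain ⟨k, m, hm, hcm⟩ : ∃ k m, ¬ p ∣ m ∧ orderOf c = p ^ k * m :=
      Nat.exists_eq_pow_mul_and_not_dvd (orderOf_pos c).ne' p hp.ne_one
    have h2 : IsPGroup p (Subgroup.zpowers (c ^ m)) := by
      refine IsPGroup.of_card (n := k) ?_
      rw [Nat.card_zpowers, orderOf_pow' _ (by rintro rfl; exact hm (dvd_zero p)), hcm,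
        Nat.gcd_eq_right (dvd_mul_left m _), Nat.mul_div_cancel _
          (Nat.pos_of_ne_zero (by rintro rfl; exact hm (dvd_zero p)))]
    obtain ⟨R, hR⟩ := h2.exists_le_sylow
    have h3 : φ c ^ m = 1 := by
      rw [← map_pow]; exact hker R _ (hR (Subgroup.mem_zpowers _))
    have h4 := pow_gcd_eq_one.mpr ⟨h1, h3⟩
    rwa [(Nat.Prime.coprime_iff_not_dvd hp).mpr hm, pow_one] at h4
  have hfix : ∀ g : G, g * z * g⁻¹ = z := by
    intro g
    obtain ⟨c, hc, s, hs, rfl⟩ : g ∈ (C : Set G) * ((S : Subgroup G) : Set G) := by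
      rw [← Subgroup.normal_mul, htop]; exact Set.mem_univ g
    have h1 : c * z * c⁻¹ = z := mul_inv_eq_one.mp (hall ⟨c, hc⟩)
    have h2 : s * z * s⁻¹ = z := by rw [hzZ.2 _ hs, mul_inv_cancel_right]
    calc c * s * z * (c * s)⁻¹ = c * (s * z * s⁻¹) * c⁻¹ := by group
      _ = z := by rw [h2, h1]
  exact Subgroup.mem_center_iff.mpr fun g => mul_inv_eq_iff_eq_mul.mp (hfix g)

variable {D : Sit p S}

theorem exists_normalizer_lift (D : Sit p S)
    {x : Matrix.ProjectiveSpecialLinearGroup (Fin 2) D.F}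
    (hx : x ∈ Subgroup.normalizer ((D.imgS : Subgroup (Matrix.ProjectiveSpecialLinearGroup (Fin 2) D.F)) :
      Set (Matrix.ProjectiveSpecialLinearGroup (Fin 2) D.F))) :
    ∃ k ∈ Subgroup.normalizer ((S : Subgroup G) : Set G), D.π k = x := by
  obtain ⟨g, rfl⟩ := D.hπ x
  set L := (S : Subgroup G) ⊔ D.π.ker with hL
  have hSL : (S : Subgroup G) ≤ L := le_sup_left
  have hcomap : L = ((S : Subgroup G).map D.π).comap D.π := by
    rw [Subgroup.comap_map_eq]
  have hgS : ((g • S : Sylow p G) : Subgroup G) ≤ L := by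
    rintro _ ⟨s, hs, rfl⟩
    rw [hcomap]
    refine Subgroup.mem_comap.mpr ?_
    have hh := (Subgroup.mem_normalizer_iff.mp hx (D.π s)).mp ⟨s, hs, rfl⟩
    rw [← map_inv, ← map_mul, ← map_mul] at hh
    exact hh
  obtain ⟨t, ht⟩ := MulAction.exists_smul_eq L ((g • S).subtype hgS) (S.subtype hSL)
  rw [Sylow.smul_subtype] at ht
  have htt : ((t : G) * g) • S = S := by
    rw [mul_smul]
    exact Sylow.subtype_injective ht
  obtain ⟨c, hc, s, hs, hts⟩ : (t : G) ∈ (D.π.ker : Set G) * ((S : Subgroup G) : Set G) := by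
    rw [← Subgroup.normal_mul, sup_comm]
    exact t.2
  refine ⟨s⁻¹ * ((t : G) * g), ?_, ?_⟩
  · exact mul_mem (inv_mem (Subgroup.le_normalizer hs)) (Sylow.smul_eq_iff_mem_normalizer.mp htt)
  · rw [← hts, map_mul, map_mul, map_mul, map_inv, MonoidHom.mem_ker.mp hc]
    group

theorem no_small_module {D : Sit p S} (m : Module' D) (hn2 : 2 ≤ D.n)
    (hsmall : Nat.card m.V < p ^ (2 * D.n) * Nat.card ↥(m.V ⊓ Subgroup.center G)) : False := by
  classical
  have hp : p.Prime := Fact.out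
  have := m.normal
  set C := Subgroup.centralizer (m.V : Set G)
  have hsimp : IsSimpleGroup (Matrix.ProjectiveSpecialLinearGroup (Fin 2) D.F) :=
    Linear.isSimpleGroup_PSL_fin le_rfl fun _ => by
      rw [Nat.card_eq_fintype_card, D.hF]
      calc 4 = 2 ^ 2 := rfl
        _ ≤ p ^ 2 := Nat.pow_le_pow_left hp.two_le 2
        _ ≤ p ^ D.n := Nat.pow_le_pow_right hp.pos hn2
  have hQK : Q0 p G ≤ D.π.ker := by
    have hn : ((Q0 p G).map D.π).Normal := pCore_normal.map D.π D.hπ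
    rcases hn.eq_bot_or_eq_top with h | h
    · exact (Subgroup.map_eq_bot_iff _).mp h
    · exact absurd ((h ▸ (S.isPGroup'.to_le (Q0_le_sylow S)).map D.π : IsPGroup p (⊤ : Subgroup _)).of_equiv Subgroup.topEquiv)
        (not_isPGroup_PSL D.hF)
  have hCK : C ≤ D.π.ker := by
    have hn : (C.map D.π).Normal := Subgroup.Normal.map inferInstance D.π D.hπ
    rcases hn.eq_bot_or_eq_top with h | h
    · exact (Subgroup.map_eq_bot_iff _).mp h
    exfalso
    obtain ⟨R, hR⟩ := H78.exists_sylow_inf_normal C S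
    have hsurj : Function.Surjective (D.π.comp C.subtype) := by
      rw [← MonoidHom.range_eq_top, MonoidHom.range_comp, Subgroup.range_subtype, h]
    have h1 := card_sylow D.hF (Sylow.mapSurjective hsurj R)
    rw [Sylow.coe_mapSurjective, ← Subgroup.map_map, hR] at h1
    rw [(Subgroup.map_eq_bot_iff _).mpr ((inf_comm _ _).trans_le (m.cent.trans hQK))] at h1
    rw [Subgroup.card_bot] at h1
    exact (Nat.one_lt_pow (by omega) hp.one_lt).ne h1
  obtain ⟨ℓ, e, x, hℓ, hℓp, hxo, hk⟩ := exists_elt_primitive hn2 D.hF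
  have : Fact ℓ.Prime := ⟨hℓ⟩
  obtain ⟨g₀, rfl⟩ := D.hπ x
  obtain ⟨a, b, hb, hab⟩ := Nat.exists_eq_pow_mul_and_not_dvd (orderOf_pos g₀).ne' ℓ hℓ.ne_one
  set g := g₀ ^ b with hg
  have hb0 : b ≠ 0 := by rintro rfl; exact hb (dvd_zero ℓ)
  have hgo : orderOf g = ℓ ^ a := by
    rw [hg, orderOf_pow' _ hb0, hab, Nat.gcd_eq_right (dvd_mul_left b _),
      Nat.mul_div_cancel _ (Nat.pos_of_ne_zero hb0)]
  have hπg : orderOf (D.π g) = ℓ ^ (e + 1) := by
    rw [hg, map_pow, Nat.Coprime.orderOf_pow, hxo]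
    rw [hxo]
    exact ((Nat.Prime.coprime_iff_not_dvd hℓ).mpr hb).pow_left _
  obtain ⟨c, hc⟩ : ∃ c, a = c + (e + 1) := by
    have : ℓ ^ (e + 1) ∣ ℓ ^ a := hgo ▸ hπg ▸ orderOf_map_dvd D.π g
    exact ⟨a - (e + 1), by have := (Nat.pow_dvd_pow_iff_le_right hℓ.one_lt).mp this; omega⟩
  let ρ : Subgroup.zpowers g →* MulAut m.V := (MulAut.conjNormal (H := m.V)).comp (Subgroup.subtype _)
  have hρker : ∀ y : Subgroup.zpowers g, ρ y = 1 → D.π y = 1 := fun y hy => by
    refine hCK fun v hv => ?_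
    have h0 := congrArg Subtype.val (DFunLike.congr_fun hy (⟨v, hv⟩ : m.V))
    have h2 : (y : G) * v * (y : G)⁻¹ = v := h0
    exact (mul_inv_eq_iff_eq_mul.mp h2).symm
  -- the image of the cyclic group acting on `V`
  set P := ρ.range
  have hPcyc : IsCyclic P := isCyclic_of_surjective ρ.rangeRestrict ρ.rangeRestrict_surjective
  have hPp : IsPGroup ℓ P := by
    refine IsPGroup.of_surjective ?_ ρ.rangeRestrict ρ.rangeRestrict_surjective
    exact IsPGroup.of_card (n := a) (by rw [Nat.card_zpowers, hgo])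
  set γ : P := ρ.rangeRestrict ⟨g, Subgroup.mem_zpowers g⟩ with hγ
  have hγo : ℓ ^ (e + 1) ∣ orderOf γ := by
    rw [← hπg]
    refine orderOf_dvd_of_pow_eq_one ?_
    rw [← map_pow]
    have h1 : ρ.rangeRestrict (⟨g, Subgroup.mem_zpowers g⟩ ^ orderOf γ) = 1 := by
      rw [map_pow, ← hγ, pow_orderOf_eq_one]
    exact hρker _ (congrArg Subtype.val h1)
  -- an element of order `ℓ ^ (e+1)` and the fixed points of its subgroup of order `ℓ`
  obtain ⟨d, hd⟩ := hγo
  have hd0 : d ≠ 0 := fun h => (orderOf_pos γ).ne' (by rw [hd, h, mul_zero])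
  set δ : MulAut m.V := ((γ ^ d : P) : MulAut m.V) with hδ
  have hδo : orderOf δ = ℓ ^ (e + 1) := by
    rw [hδ, Subgroup.orderOf_coe, orderOf_pow' _ hd0, hd, Nat.gcd_mul_left_left,
      Nat.mul_div_cancel _ (Nat.pos_of_ne_zero hd0)]
  set h : MulAut m.V := δ ^ ℓ ^ e with hh
  have hho : orderOf h = ℓ := by
    rw [hh, orderOf_pow' _ (pow_pos hℓ.pos e).ne', hδo, pow_succ, Nat.gcd_mul_right_left,
      Nat.mul_div_cancel_left _ (pow_pos hℓ.pos e)]
  let Fh : Subgroup m.V := MonoidHom.eqLocus h.toMonoidHom (MonoidHom.id _)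
  have hFh : ∀ v, v ∈ Fh ↔ h v = v := fun v => Iff.rfl
  have hcom : ∀ y ∈ Subgroup.zpowers δ, Commute y h := by
    rintro _ ⟨k, rfl⟩
    exact ((Commute.refl δ).zpow_left k).pow_right _
  let _ : MulAction (Subgroup.zpowers δ) {v : m.V // v ∉ Fh} :=
    { smul := fun y v => ⟨(y : MulAut m.V) v.1, fun hv => v.2 ((hFh _).mpr (by
        have h1 : (y : MulAut m.V) (h v.1) = (y : MulAut m.V) v.1 := by
          rw [← (hFh _).mp hv]
          exact DFunLike.congr_fun (hcom y y.2).eq v.1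
        exact (y : MulAut m.V).injective h1))⟩
      one_smul := fun v => Subtype.ext rfl
      mul_smul := fun y₁ y₂ v => Subtype.ext rfl }
  have hfree : ∀ (y : Subgroup.zpowers δ) (v : {v : m.V // v ∉ Fh}), y • v = v → y = 1 := by
    rintro ⟨_, k, rfl⟩ ⟨v, hv⟩ hy
    refine Subtype.ext ?_
    show δ ^ k = 1
    by_contra hne
    apply hv
    rw [hFh]
    have hfix : ∀ y' ∈ Subgroup.zpowers (δ ^ k), y' v = v := by
      rintro _ ⟨j, rfl⟩
      have h0 : (δ ^ k) • v = v := congrArg Subtype.val hy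
      exact Subgroup.zpowers_le.mpr (show δ ^ k ∈ MulAction.stabilizer (MulAut m.V) v from h0) ⟨j, rfl⟩
    refine hfix h ?_
    have hm : δ ^ k ∈ Subgroup.zpowers δ := ⟨k, rfl⟩
    obtain ⟨j, hj, hjk⟩ : ∃ j : ℕ, j < orderOf δ ∧ δ ^ j = δ ^ k := by
      obtain ⟨i, hi, hik⟩ := Finset.mem_image.mp (mem_zpowers_iff_mem_range_orderOf.mp hm)
      exact ⟨i, Finset.mem_range.mp hi, hik⟩
    rw [← hjk] at hne ⊢
    obtain ⟨s, -, hs⟩ : ∃ s, s ≤ e + 1 ∧ Nat.gcd (orderOf δ) j = ℓ ^ s :=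
      (Nat.dvd_prime_pow hℓ).mp (hδo ▸ Nat.gcd_dvd_left _ _)
    have hse : s ≤ e := by
      by_contra hs'
      apply hne
      apply orderOf_dvd_iff_pow_eq_one.mp
      rw [hδo]
      exact (pow_dvd_pow ℓ (by omega : e + 1 ≤ s)).trans (hs ▸ Nat.gcd_dvd_right _ _)
    have h1 : δ ^ Nat.gcd (orderOf δ) j ∈ Subgroup.zpowers (δ ^ j) := by
      refine Subgroup.mem_zpowers_iff.mpr ⟨Nat.gcdB (orderOf δ) j, ?_⟩
      rw [← zpow_natCast δ (Nat.gcd _ _), Nat.gcd_eq_gcd_ab, zpow_add, zpow_mul δ (orderOf δ : ℤ),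
        zpow_natCast, pow_orderOf_eq_one, one_zpow, one_mul, zpow_mul, zpow_natCast]
    rw [hs] at h1
    obtain ⟨i, hi⟩ := pow_dvd_pow ℓ hse
    rw [hh, hi, pow_mul]
    exact pow_mem h1 i
  have hst : ∀ v : {v : m.V // v ∉ Fh}, MulAction.stabilizer (Subgroup.zpowers δ) v = ⊥ := fun v =>
    (Subgroup.eq_bot_iff_forall _).mpr fun y hy => hfree y v hy
  have hdvd : ℓ ^ (e + 1) ∣ Nat.card {v : m.V // v ∉ Fh} := by
    have := Nat.card_congr (MulAction.selfEquivSigmaOrbits (Subgroup.zpowers δ) {v : m.V // v ∉ Fh})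
    rw [this]
    cases nonempty_fintype (MulAction.orbitRel.Quotient (Subgroup.zpowers δ) {v : m.V // v ∉ Fh})
    rw [Nat.card_sigma]
    refine Finset.dvd_sum fun ω _ => ?_
    obtain ⟨v, rfl⟩ := Quotient.mk''_surjective ω
    rw [Nat.card_congr (MulAction.orbitEquivQuotientStabilizer (Subgroup.zpowers δ) _),
      ← Subgroup.index_eq_card, hst,
      Subgroup.index_bot, Nat.card_zpowers, hδo]
  have hVp : IsPGroup p m.V := fun v => ⟨1, by
    rw [pow_one]; exact Subtype.ext (by simpa using m.pow v v.2)⟩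
  obtain ⟨A, hA⟩ := IsPGroup.iff_card.mp hVp
  obtain ⟨B, hB⟩ := IsPGroup.iff_card.mp (hVp.to_subgroup Fh)
  have hcard : Nat.card {v : m.V // v ∉ Fh} + Nat.card Fh = Nat.card m.V := by
    have := Nat.card_congr (Equiv.sumCompl fun v : m.V => v ∈ Fh)
    rw [Nat.card_sum] at this
    rw [← this, add_comm]
  have hBA : B < A := by
    by_contra hle
    have h0 : Fh = ⊤ := Subgroup.eq_top_of_le_card _ (by
      rw [hA, hB]; exact Nat.pow_le_pow_right hp.pos (not_lt.mp hle))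
    have h1 : h = 1 := MulEquiv.ext fun v => (hFh v).mp (h0 ▸ Subgroup.mem_top v)
    rw [h1, orderOf_one] at hho
    exact hℓ.one_lt.ne hho
  have hCG : Nat.card ↥(m.V ⊓ Subgroup.center G) ≤ Nat.card Fh := by
    refine Nat.card_le_card_of_injective (fun z => ⟨⟨z.1, z.2.1⟩, (hFh _).mpr ?_⟩) ?_
    · have : ∀ y ∈ P, y ⟨z.1, z.2.1⟩ = ⟨z.1, z.2.1⟩ := by
        rintro _ ⟨u, rfl⟩
        refine Subtype.ext ?_
        show (u : G) * z.1 * (u : G)⁻¹ = z.1
        rw [Subgroup.mem_center_iff.mp z.2.2, mul_inv_cancel_right]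
      exact this _ (P.pow_mem (γ ^ d).2 _)
    · intro u v huv
      exact Subtype.ext (congrArg (fun w : Fh => ((w : m.V) : G)) huv)
  have hlt : p ^ A < p ^ (2 * D.n + B) := by
    rw [pow_add, ← hA, ← hB]
    exact hsmall.trans_le (Nat.mul_le_mul_left _ hCG)
  have hA' := (Nat.pow_lt_pow_iff_right hp.one_lt).mp hlt
  refine hk (A - B) (by omega) (by omega) ?_
  have hcop : (ℓ ^ (e + 1)).Coprime (p ^ B) :=
    Nat.Coprime.pow _ _ ((Nat.coprime_primes hℓ hp).mpr hℓp)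
  refine hcop.dvd_of_dvd_mul_left ?_
  have hpow : p ^ A = p ^ B * p ^ (A - B) := by rw [← pow_add]; congr 1; omega
  rw [Nat.mul_sub_one, ← hpow]
  rw [hB, hA] at hcard
  rwa [show p ^ A - p ^ B = Nat.card {v : m.V // v ∉ Fh} by omega]

/-- The main inequality: a subgroup of `S` fixes at most the fraction one over the order of its image. -/
theorem Module'.le_index (m : Module' D) {X : Subgroup G} (hX : X ≤ S) :
    Nat.card X * Nat.card ↥(m.V ⊓ Subgroup.centralizer (X : Set G)) ≤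
      Nat.card ↥(X ⊓ Q0 p G) * Nat.card m.V := by
  classical
  have hp : p.Prime := Fact.out
  have := m.normal
  have hQn : (Q0 p G).Normal := pCore_normal
  have hQS : Q0 p G ≤ S := Q0_le_sylow S
  let fx : Subgroup G → Subgroup G := fun Y => m.V ⊓ Subgroup.centralizer (Y : Set G)
  let φ : Subgroup G → ℕ := fun Y => Nat.card Y * Nat.card (fx Y)
  suffices key : ∀ Y : Subgroup G, Q0 p G ≤ Y → Y ≤ S → φ Y ≤ Nat.card (Q0 p G) * Nat.card m.V by
    have h := key (X ⊔ Q0 p G) le_sup_right (sup_le hX hQS)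
    have e1 : fx (X ⊔ Q0 p G) = fx X := by
      refine le_antisymm (inf_le_inf_left _ (Subgroup.centralizer_le (le_sup_left : X ≤ _))) ?_
      refine le_inf inf_le_left (Subgroup.le_centralizer_iff.mpr (sup_le
        (Subgroup.le_centralizer_iff.mp inf_le_right)
        (Subgroup.le_centralizer_iff.mp (inf_le_left.trans m.le_cc))))
    have e2 := H62.card_prod_mul_card_inf X (Q0 p G)
    rw [← Subgroup.mul_normal] at e2
    replace e2 : Nat.card ↥(X ⊔ Q0 p G) * Nat.card ↥(X ⊓ Q0 p G) = Nat.card X * Nat.card (Q0 p G) := e2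
    refine Nat.le_of_mul_le_mul_left ?_ (Nat.card_pos (α := Q0 p G))
    calc Nat.card (Q0 p G) * (Nat.card X * Nat.card (fx X))
        = Nat.card ↥(X ⊔ Q0 p G) * Nat.card ↥(X ⊓ Q0 p G) * Nat.card (fx X) := by rw [e2]; ring
      _ = φ (X ⊔ Q0 p G) * Nat.card ↥(X ⊓ Q0 p G) := by simp only [φ, e1]; ring
      _ ≤ Nat.card (Q0 p G) * Nat.card m.V * Nat.card ↥(X ⊓ Q0 p G) := Nat.mul_le_mul_right _ h
      _ = _ := by ring
  by_contra! hbad
  obtain ⟨hchar, hn0⟩ := H59.charP_of_card_eq D.hF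
  obtain ⟨Y₁, hY₁Q, hY₁S, hY₁⟩ := hbad
  obtain ⟨Ym, ⟨hYmQ, hYmS⟩, hmax⟩ := (Set.toFinite {Y : Subgroup G | Q0 p G ≤ Y ∧ Y ≤ S}).exists_maximalFor
    φ _ ⟨Y₁, hY₁Q, hY₁S⟩
  have hmax' : ∀ Y : Subgroup G, Q0 p G ≤ Y → Y ≤ S → φ Y ≤ φ Ym := fun Y h1 h2 => by
    by_contra h
    exact h (hmax ⟨h1, h2⟩ (not_le.mp h).le)
  obtain ⟨T, ⟨hTQ, hTS, hT⟩, hTmax⟩ := (Set.toFinite
      {Y : Subgroup G | Q0 p G ≤ Y ∧ Y ≤ S ∧ φ Y = φ Ym}).exists_maximalFor
    (fun Y : Subgroup G => Nat.card Y) _ ⟨Ym, hYmQ, hYmS, rfl⟩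
  have hTbad : Nat.card (Q0 p G) * Nat.card m.V < φ T :=
    hT ▸ hY₁.trans_le (hmax' _ hY₁Q hY₁S)
  have huniq : ∀ Y : Subgroup G, Q0 p G ≤ Y → Y ≤ S → φ Y = φ T → Y ≤ T := by
    intro Y hYQ hYS hY
    have h1 : Nat.card Y * Nat.card T ≤ Nat.card ↥(Y ⊔ T) * Nat.card ↥(Y ⊓ T) := by
      rw [← H62.card_prod_mul_card_inf]
      exact Nat.mul_le_mul_right _ (H62.card_prod_le_sup Y T)
    have h2 : Nat.card (fx Y) * Nat.card (fx T) ≤ Nat.card (fx (Y ⊓ T)) * Nat.card (fx (Y ⊔ T)) := by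
      have e : fx Y ⊓ fx T = fx (Y ⊔ T) := by
        show (m.V ⊓ H62.cc Y) ⊓ (m.V ⊓ H62.cc T) = m.V ⊓ H62.cc (Y ⊔ T)
        rw [H62.cc_sup, inf_inf_inf_comm, inf_idem]
      rw [← H62.card_prod_mul_card_inf, e]
      refine Nat.mul_le_mul_right _ ((H62.card_prod_le_sup _ _).trans (Subgroup.card_le_of_le ?_))
      exact sup_le (inf_le_inf_left _ (Subgroup.centralizer_le (inf_le_left : Y ⊓ T ≤ Y)))
        (inf_le_inf_left _ (Subgroup.centralizer_le (inf_le_right : Y ⊓ T ≤ T)))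
    have h3 : φ (Y ⊓ T) ≤ φ T := hT ▸ hmax' _ (le_inf hYQ hTQ) (inf_le_left.trans hYS)
    have h4 : φ (Y ⊔ T) ≤ φ T := hT ▸ hmax' _ (hYQ.trans le_sup_left) (sup_le hYS hTS)
    have h5 : φ T * φ T ≤ φ (Y ⊔ T) * φ (Y ⊓ T) := by
      calc φ T * φ T = φ Y * φ T := by rw [hY]
        _ = Nat.card Y * Nat.card T * (Nat.card (fx Y) * Nat.card (fx T)) := by simp only [φ]; ring
        _ ≤ _ := Nat.mul_le_mul h1 h2
        _ = φ (Y ⊔ T) * φ (Y ⊓ T) := by simp only [φ]; ring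
    have hpos : 0 < φ T := lt_of_le_of_lt (Nat.zero_le _) hTbad
    have h6 : φ (Y ⊔ T) = φ T := le_antisymm h4 (Nat.le_of_mul_le_mul_right
      (h5.trans (Nat.mul_le_mul_left _ h3)) hpos)
    have h7 : Nat.card ↥(Y ⊔ T) ≤ Nat.card T := by
      by_contra h
      exact h (hTmax ⟨hYQ.trans le_sup_left, sup_le hYS hTS, h6.trans hT⟩ (not_le.mp h).le)
    have h8 := Subgroup.eq_of_le_of_card_ge (le_sup_right : T ≤ Y ⊔ T) h7
    exact h8.symm ▸ le_sup_left
  have hTne : ¬ T ≤ Q0 p G := fun h => by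
    have : T = Q0 p G := le_antisymm h hTQ
    exact absurd hTbad (not_lt.mpr (by
      rw [this]; exact Nat.mul_le_mul_left _ (Subgroup.card_le_of_le inf_le_left)))
  have hinvT : ∀ k ∈ Subgroup.normalizer ((S : Subgroup G) : Set G), ∀ t ∈ T, k * t * k⁻¹ ∈ T := by
    intro k hk t ht
    set α : G →* G := (MulAut.conj k).toMonoidHom
    have hinj : Function.Injective α := (MulAut.conj k).injective
    refine huniq (T.map α) ?_ ?_ ?_ ⟨t, ht, rfl⟩
    · intro x hx
      refine ⟨k⁻¹ * x * k, hTQ (by simpa using hQn.conj_mem x hx k⁻¹), ?_⟩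
      show k * (k⁻¹ * x * k) * k⁻¹ = x
      group
    · rintro _ ⟨u, hu, rfl⟩
      exact (Subgroup.mem_normalizer_iff.mp hk u).mp (hTS hu)
    · have e : fx (T.map α) = (fx T).map α := by
        show m.V ⊓ Subgroup.centralizer (_ : Set G) = _
        rw [Subgroup.map_inf _ _ _ hinj]
        congr 1
        · exact (Subgroup.Normal.map_conj_eq m.V k).symm
        · exact centralizer_map_conj T k
      simp only [φ, e, Subgroup.card_map_of_injective hinj]
  have hTS' : T = S := by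
    have himg := eq_of_normalizer_invariant D.hF D.imgS (Y := T.map D.π) (Subgroup.map_mono hTS)
      (fun h => hTne fun t ht => D.ker_inter_le
        (Subgroup.mem_inf.mpr ⟨(Subgroup.map_eq_bot_iff _).mp h ht, hTS ht⟩)) ?_
    · refine le_antisymm hTS fun s hs => ?_
      obtain ⟨t, ht, hts⟩ : D.π s ∈ T.map D.π := himg ▸ (⟨s, hs, rfl⟩ : D.π s ∈ (S : Subgroup G).map D.π)
      have h1 : t⁻¹ * s ∈ T := hTQ (D.ker_inter_le (Subgroup.mem_inf.mpr ⟨by
        show D.π (t⁻¹ * s) = 1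
        rw [map_mul, map_inv, hts, inv_mul_cancel], mul_mem (inv_mem (hTS ht)) hs⟩))
      have := mul_mem ht h1
      rwa [mul_inv_cancel_left] at this
    · rintro x hx _ ⟨t, ht, rfl⟩
      obtain ⟨k, hk, rfl⟩ := exists_normalizer_lift D hx
      exact ⟨k * t * k⁻¹, hinvT k hk t ht, by simp⟩
  subst hTS'
  -- the fixed points of `G` have index less than `q ^ 2`
  set CS := fx (S : Subgroup G) with hCS
  set CG := m.V ⊓ Subgroup.center G with hCG
  have hVq : Nat.card m.V < p ^ D.n * Nat.card CS := by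
    refine Nat.lt_of_mul_lt_mul_left (a := Nat.card (Q0 p G)) (hTbad.trans_le ?_)
    calc φ (S : Subgroup G) ≤ p ^ D.n * Nat.card (Q0 p G) * Nat.card CS :=
          Nat.mul_le_mul_right _ D.card_S_le
      _ = _ := by ring
  obtain ⟨g, hg⟩ := D.exists_conj_not_le le_rfl hTne
  set β : G →* G := (MulAut.conj g).toMonoidHom
  have hinj : Function.Injective β := (MulAut.conj g).injective
  have hfix : CS ⊓ fx ((S : Subgroup G).map β) ≤ CG := by
    intro v hv
    refine ⟨hv.1.1, ?_⟩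
    have hle : (S : Subgroup G) ⊔ (S : Subgroup G).map β ≤ Subgroup.centralizer ({v} : Set G) :=
      sup_le (fun s hs => Subgroup.mem_centralizer_singleton_iff.mpr (hv.1.2 s hs))
        (fun s hs => Subgroup.mem_centralizer_singleton_iff.mpr (hv.2.2 s hs))
    rw [D.sup_eq_top hg] at hle
    exact Subgroup.mem_center_iff.mpr fun x =>
      Subgroup.mem_centralizer_singleton_iff.mp (hle (Subgroup.mem_top x))
  have hcardβ : Nat.card (fx ((S : Subgroup G).map β)) = Nat.card CS := by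
    refine Eq.trans ?_ (Subgroup.card_map_of_injective (f := β) (K := CS) hinj)
    show Nat.card ↥(m.V ⊓ Subgroup.centralizer (_ : Set G)) =
      Nat.card ↥((m.V ⊓ Subgroup.centralizer ((S : Subgroup G) : Set G)).map β)
    rw [Subgroup.map_inf _ _ _ hinj, centralizer_map_conj, show m.V.map β = m.V from ?_]
    ext v
    rw [Subgroup.mem_map_equiv, MulAut.conj_symm_apply]
    exact ⟨fun h => by convert m.normal.conj_mem _ h g using 1; group,
      fun h => by simpa using m.normal.conj_mem _ h g⁻¹⟩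
  have hV2 : Nat.card CS * Nat.card CS ≤ Nat.card m.V * Nat.card CG := by
    conv_lhs => arg 2; rw [← hcardβ]
    rw [← H62.card_prod_mul_card_inf]
    exact Nat.mul_le_mul ((H62.card_prod_le_sup _ _).trans
      (Subgroup.card_le_of_le (sup_le inf_le_left inf_le_left))) (Subgroup.card_le_of_le hfix)
  have hsmall : Nat.card m.V < p ^ (2 * D.n) * Nat.card CG := by
    have hsq := Nat.mul_lt_mul_of_lt_of_le hVq hVq.le (Nat.mul_pos (Nat.pow_pos hp.pos) Nat.card_pos)
    refine Nat.lt_of_mul_lt_mul_left (a := Nat.card m.V) (hsq.trans_le ?_)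
    calc p ^ D.n * Nat.card CS * (p ^ D.n * Nat.card CS)
        = p ^ (2 * D.n) * (Nat.card CS * Nat.card CS) := by rw [two_mul, pow_add]; ring
      _ ≤ p ^ (2 * D.n) * (Nat.card m.V * Nat.card CG) := Nat.mul_le_mul_left _ hV2
      _ = _ := by ring
  have hVp : IsPGroup p m.V := fun x => ⟨1, by
    rw [pow_one]; exact Subtype.ext (by simpa using m.pow x x.2)⟩
  have hn2 : 2 ≤ D.n := by
    by_contra h
    have hn1 : D.n = 1 := by omega
    rw [hn1, pow_one] at hVq
    obtain ⟨a, ha⟩ := IsPGroup.iff_card.mp hVp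
    obtain ⟨b, hb⟩ := IsPGroup.iff_card.mp (hVp.to_le (inf_le_left : CS ≤ m.V))
    rw [ha, hb, ← pow_succ'] at hVq
    have h1 : a ≤ b := Nat.lt_succ_iff.mp ((Nat.pow_lt_pow_iff_right hp.one_lt).mp hVq)
    have h2 : CS = m.V := Subgroup.eq_of_le_of_card_ge inf_le_left
      (by rw [ha, hb]; exact Nat.pow_le_pow_right hp.pos h1)
    refine hTne fun s hs => m.cent ⟨fun v hv => ?_, hs⟩
    exact ((show v ∈ CS from h2.symm ▸ hv).2 s hs).symm
  exact no_small_module m hn2 hsmall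

end Cfsg.Agent.H46.PushUp
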