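import Cfsg.Agent.Linear.Dickson.Scaled
import Cfsg.Agent.Linear.Dickson.Partition
import Cfsg.Agent.Linear.Simple
import Cfsg.Agent.Linear.Order
import Cfsg.Agent.H59.SL2Word

/-!
# Sylow subgroups of `PSL₂(q)` and their normalisers
-/

set_option autoImplicit false

namespace Cfsg.Agent.H46.PushUp

open Matrix Cfsg.Agent Cfsg.Agent.Linear Cfsg.Agent.Linear.Dickson

variable {F : Type*} [Field F] [Fintype F]

local notation "S2" => Matrix.SpecialLinearGroup (Fin 2) F
local notation "P2" => Matrix.ProjectiveSpecialLinearGroup (Fin 2) F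

/-- The upper unitriangular subgroup as a homomorphism. -/
noncomputable def upHom : Multiplicative F →* P2 where
  toFun b := proj (upSL b.toAdd)
  map_one' := by simp [upSL_zero]
  map_mul' a b := by rw [← map_mul, ← upSL_add]; rfl

theorem upHom_injective : Function.Injective (upHom (F := F)) := by
  rw [injective_iff_map_eq_one]
  intro a ha
  have h : IsScalarTwo ((upSL a.toAdd : S2) : Matrix (Fin 2) (Fin 2) F) := proj_eq_one_iff.mp ha
  by_contra hne
  exact not_isScalarTwo_upSL (fun h0 => hne (toAdd_eq_zero.mp h0)) h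

theorem card_range_upHom : Nat.card (upHom (F := F)).range = Fintype.card F := by
  rw [← Nat.card_congr (MonoidHom.ofInjective upHom_injective).toEquiv,
    ← Nat.card_eq_fintype_card]
  exact Nat.card_congr Multiplicative.toAdd

theorem diag_conj_upSL {a : F} (ha : a ≠ 0) (b : F) :
    Matrix.SpecialLinearGroup.diag2 a ha * upSL b =
      upSL (a ^ 2 * b) * Matrix.SpecialLinearGroup.diag2 a ha := by
  refine Subtype.ext ?_
  rw [Matrix.SpecialLinearGroup.coe_mul, Matrix.SpecialLinearGroup.coe_mul, upSL_coe, upSL_coe,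
    Matrix.SpecialLinearGroup.diag2_coe' ha]
  apply ext_two <;> simp [mul_two_apply]
  field_simp

theorem diag_mem_normalizer {a : F} (ha : a ≠ 0) :
    proj (Matrix.SpecialLinearGroup.diag2 a ha : S2) ∈
      Subgroup.normalizer ((upHom (F := F)).range : Set P2) := by
  refine Subgroup.mem_normalizer_iff.mpr fun x => ?_
  constructor
  · rintro ⟨b, rfl⟩
    refine ⟨Multiplicative.ofAdd (a ^ 2 * b.toAdd), ?_⟩
    rw [eq_mul_inv_iff_mul_eq]
    show proj (upSL (a ^ 2 * b.toAdd)) * proj _ = proj _ * proj (upSL b.toAdd)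
    rw [← map_mul, ← map_mul, diag_conj_upSL ha]
  · rintro ⟨b, hb⟩
    refine ⟨Multiplicative.ofAdd (b.toAdd / a ^ 2), ?_⟩
    have h2 : a ^ 2 ≠ 0 := pow_ne_zero 2 ha
    apply mul_left_cancel (a := proj (Matrix.SpecialLinearGroup.diag2 a ha : S2))
    rw [show proj (Matrix.SpecialLinearGroup.diag2 a ha : S2) * x =
        upHom b * proj (Matrix.SpecialLinearGroup.diag2 a ha : S2) by rw [hb]; group]
    show proj _ * proj (upSL (b.toAdd / a ^ 2)) = proj (upSL b.toAdd) * proj _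
    rw [← map_mul, ← map_mul, diag_conj_upSL ha, mul_div_cancel₀ _ h2]

theorem mem_of_sq_closed (p : ℕ) [CharP F p] (Y : AddSubgroup F) {b₀ : F} (hb₀ : b₀ ∈ Y)
    (hne : b₀ ≠ 0) (hY : ∀ a b : F, b ∈ Y → a ^ 2 * b ∈ Y) (x : F) : x ∈ Y := by
  by_cases h2 : ringChar F = 2
  · obtain ⟨a, ha⟩ := FiniteField.isSquare_of_char_two h2 (x / b₀)
    have : x = a ^ 2 * b₀ := by rw [sq, ← ha, div_mul_cancel₀ x hne]
    exact this ▸ hY a _ hb₀
  · have h20 : (2 : F) ≠ 0 := Ring.two_ne_zero h2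
    have : x = ((x / b₀ + 1) / 2) ^ 2 * b₀ - ((x / b₀ - 1) / 2) ^ 2 * b₀ := by
      field_simp
      ring
    exact this ▸ Y.sub_mem (hY _ _ hb₀) (hY _ _ hb₀)

variable {p n : ℕ} [Fact p.Prime]

theorem coprime_index_range (hF : Fintype.card F = p ^ n) :
    ¬ p ∣ (upHom (F := F)).range.index := by
  obtain ⟨_, hn⟩ := H59.charP_of_card_eq hF
  have hp : p.Prime := Fact.out
  have h := card_PSL_two_mul (F := F)
  have hidx := Subgroup.card_mul_index (upHom (F := F)).range
  rw [card_range_upHom] at hidx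
  rintro ⟨c, hc⟩
  rw [← hidx, hc] at h
  have hq : 0 < Fintype.card F := Fintype.card_pos
  have h' : p * (Nat.gcd 2 (Fintype.card F - 1) * c) = Fintype.card F ^ 2 - 1 := by
    apply Nat.eq_of_mul_eq_mul_left hq
    rw [← h]; ring
  have h1 : p ∣ Fintype.card F ^ 2 - 1 := ⟨_, h'.symm⟩
  have h2 : p ∣ Fintype.card F ^ 2 := by
    rw [hF, ← pow_mul]; exact dvd_pow_self p (by omega)
  have h3 : 1 ≤ Fintype.card F ^ 2 := Nat.one_le_pow _ _ hq
  have h4 := Nat.dvd_sub h2 h1
  rw [show Fintype.card F ^ 2 - (Fintype.card F ^ 2 - 1) = 1 by omega] at h4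
  exact hp.one_lt.ne' (Nat.dvd_one.mp h4)

theorem isPGroup_range (hF : Fintype.card F = p ^ n) : IsPGroup p (upHom (F := F)).range :=
  IsPGroup.of_card (by rw [card_range_upHom, hF])

theorem card_sylow (hF : Fintype.card F = p ^ n) (P : Sylow p P2) :
    Nat.card (P : Subgroup P2) = p ^ n := by
  let U : Sylow p P2 := (isPGroup_range hF).toSylow (coprime_index_range hF)
  have : Nat.card (U : Subgroup P2) = p ^ n := by
    show Nat.card (upHom (F := F)).range = _
    rw [card_range_upHom, hF]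
  rw [← this]
  exact Nat.card_congr (P.equiv U).toEquiv

/-- A non-trivial subgroup of a Sylow `p`-subgroup of `PSL₂(q)` which is normalised by the normaliser of
the Sylow subgroup is the whole Sylow subgroup. -/
theorem eq_of_normalizer_invariant (hF : Fintype.card F = p ^ n) (P : Sylow p P2) {Y : Subgroup P2}
    (hY : Y ≤ P) (hne : Y ≠ ⊥)
    (hinv : ∀ g ∈ Subgroup.normalizer ((P : Subgroup P2) : Set P2), ∀ y ∈ Y, g * y * g⁻¹ ∈ Y) :
    Y = P := by
  obtain ⟨hchar, -⟩ := H59.charP_of_card_eq hF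
  let U : Sylow p P2 := (isPGroup_range hF).toSylow (coprime_index_range hF)
  obtain ⟨c, hc⟩ := MulAction.exists_smul_eq P2 U P
  have hPU : (P : Subgroup P2) = (upHom (F := F)).range.map (MulAut.conj c).toMonoidHom := by
    rw [← hc]; rfl
  have hmemP : ∀ b : Multiplicative F, c * upHom b * c⁻¹ ∈ (P : Subgroup P2) := fun b => by
    rw [hPU]; exact ⟨upHom b, ⟨b, rfl⟩, rfl⟩
  let B : AddSubgroup F :=
    { carrier := {b | c * upHom (Multiplicative.ofAdd b) * c⁻¹ ∈ Y}
      zero_mem' := by simp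
      add_mem' := fun {a b} ha hb => by
        have := Y.mul_mem ha hb
        simp only [Set.mem_ofPred_eq, ofAdd_add, map_mul]
        convert this using 1
        group
      neg_mem' := fun {a} ha => by
        have := Y.inv_mem ha
        simp only [Set.mem_ofPred_eq, ofAdd_neg, map_inv]
        convert this using 1
        group }
  obtain ⟨y, hy, hy1⟩ := (Subgroup.bot_or_exists_ne_one Y).resolve_left hne
  obtain ⟨u, ⟨b₀, rfl⟩, hu⟩ := hPU ▸ hY hy
  have hb₀ : b₀.toAdd ∈ B := by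
    show c * upHom (Multiplicative.ofAdd b₀.toAdd) * c⁻¹ ∈ Y
    rw [ofAdd_toAdd]
    exact (show c * upHom b₀ * c⁻¹ = y from hu) ▸ hy
  have hb1 : b₀.toAdd ≠ 0 := fun h0 => hy1 (by
    rw [← hu, toAdd_eq_zero.mp h0]; simp)
  have hall := mem_of_sq_closed p B hb₀ hb1 (fun a b hb => by
    rcases eq_or_ne a 0 with rfl | ha
    · simpa using B.zero_mem
    set d : P2 := proj (Matrix.SpecialLinearGroup.diag2 a ha : S2) with hd
    have hdn := diag_mem_normalizer (F := F) ha
    have hcn : c * d * c⁻¹ ∈ Subgroup.normalizer ((P : Subgroup P2) : Set P2) := by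
      rw [Subgroup.mem_normalizer_iff]
      intro x
      have key := Subgroup.mem_normalizer_iff.mp hdn (c⁻¹ * x * c)
      have e1 : ∀ z, z ∈ (P : Subgroup P2) ↔ c⁻¹ * z * c ∈ (upHom (F := F)).range := fun z => by
        rw [hPU, Subgroup.mem_map_equiv, MulAut.conj_symm_apply]
      rw [e1, e1, key]
      have e2 : d * (c⁻¹ * x * c) * d⁻¹ = c⁻¹ * (c * d * c⁻¹ * x * (c * d * c⁻¹)⁻¹) * c := by group
      rw [← hd, e2]
    have h := hinv _ hcn _ (show c * upHom (Multiplicative.ofAdd b) * c⁻¹ ∈ Y from hb)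
    show c * upHom (Multiplicative.ofAdd (a ^ 2 * b)) * c⁻¹ ∈ Y
    have e : d * upHom (Multiplicative.ofAdd b) * d⁻¹ = upHom (Multiplicative.ofAdd (a ^ 2 * b)) := by
      rw [mul_inv_eq_iff_eq_mul, hd]
      show proj _ * proj (upSL b) = proj (upSL (a ^ 2 * b)) * proj _
      rw [← map_mul, ← map_mul, diag_conj_upSL ha]
    convert h using 1
    rw [← e]; group)
  refine le_antisymm hY fun x hx => ?_
  obtain ⟨u, ⟨b, rfl⟩, hu'⟩ := hPU ▸ hx
  rw [← hu']
  simpa [B] using hall b.toAdd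

/-- For `n ≥ 2` there is an element whose order is a primitive power for `p ^ (2 n) - 1`. -/
theorem exists_elt_primitive (hn : 2 ≤ n) (hF : Fintype.card F = p ^ n) :
    ∃ ℓ e : ℕ, ∃ x : P2, ℓ.Prime ∧ ℓ ≠ p ∧ orderOf x = ℓ ^ (e + 1) ∧
      ∀ k, 0 < k → k < 2 * n → ¬ ℓ ^ (e + 1) ∣ p ^ k - 1 := by
  obtain ⟨hchar, -⟩ := H59.charP_of_card_eq hF
  obtain ⟨r, ⟨ℓ, e, hℓ, hℓ2, hℓp, rfl⟩, hrd, hk⟩ := H59.exists_primitivePow (Fact.out : p.Prime) hn
  have : Fact ℓ.Prime := ⟨hℓ⟩
  obtain ⟨R⟩ := Sylow.nonempty (p := ℓ) (G := S2)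
  have hRc : IsCyclic R := Linear.isCyclic_of_isPGroup p hℓ2 hℓp R.isPGroup'
  have hdvd : ℓ ^ (e + 1) ∣ Nat.card R := by
    refine Sylow.pow_dvd_card_of_pow_dvd_card R ?_
    rw [Linear.card_SL_two, hF, show (p ^ n) ^ 2 - 1 = (p ^ n + 1) * (p ^ n - 1) by
      simpa using Nat.sq_sub_sq (p ^ n) 1]
    exact (hrd.mul_right _).mul_left _
  obtain ⟨z₀, hz₀⟩ := IsCyclic.exists_generator (α := R)
  have hord : orderOf z₀ = Nat.card R := orderOf_eq_card_of_forall_mem_zpowers hz₀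
  obtain ⟨d, hd⟩ := hdvd
  have hd0 : d ≠ 0 := fun h => by rw [h, mul_zero] at hd; exact Nat.card_pos.ne' hd
  set z : S2 := ((z₀ ^ d : R) : S2) with hz
  have hzo : orderOf z = ℓ ^ (e + 1) := by
    rw [hz, Subgroup.orderOf_coe, orderOf_pow' _ hd0, hord, hd]
    simp [Nat.gcd_mul_left_left, Nat.pos_of_ne_zero hd0]
  have hr2 : Nat.Coprime (ℓ ^ (e + 1)) 2 :=
    ((Nat.coprime_primes hℓ Nat.prime_two).mpr hℓ2).pow_left _
  refine ⟨ℓ, e, proj z, hℓ, hℓp, Nat.dvd_antisymm (hzo ▸ orderOf_map_dvd proj z) ?_, hk⟩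
  refine hr2.dvd_of_dvd_mul_right ?_
  rw [← hzo]
  refine orderOf_dvd_of_pow_eq_one ?_
  rw [pow_mul]
  have h1 : proj (z ^ orderOf (proj z)) = 1 := by rw [map_pow, pow_orderOf_eq_one]
  rcases isScalarTwo_SL_iff.mp (proj_eq_one_iff.mp h1) with h | h
  · rw [h, one_pow]
  · rw [h, neg_one_sq]

end Cfsg.Agent.H46.PushUp
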